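import Groth.Agent.CAlg1.Pop.EtaleSol
import Groth.Agent.Unr55.CompletionCrit
import Groth.Agent.CAlg5.AdicFS
import Mathlib.RingTheory.Unramified.LocalRing
import Mathlib.RingTheory.Etale.Basic
import Mathlib.RingTheory.FinitePresentation

/-!
Approximating a map into a completed local ring by a map into an étale neighbourhood (affine core).
-/

set_option autoImplicit false
set_option linter.style.haveILetI false
universe u

open IsLocalRing

namespace Groth.Agent.EtNhd31

variable {A B C : Type u} [CommRing A] [CommRing B] [CommRing C] [Algebra A B] [Algebra A C]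

/-- An element of the completion lies in the `n`-th power of the maximal ideal iff it dies modulo it. -/
theorem evalₐ_eq_zero_iff_mem_map {L : Type u} [CommRing L] [IsLocalRing L] [IsNoetherianRing L] (n : ℕ)
    (z : AdicCompletion (maximalIdeal L) L) :
    AdicCompletion.evalₐ (maximalIdeal L) n z = 0 ↔
      z ∈ (maximalIdeal L ^ n).map (algebraMap L (AdicCompletion (maximalIdeal L) L)) := by
  rw [CAlg5.evalₐ_eq_zero_iff _ (IsNoetherian.noetherian _), Ideal.map_pow]

theorem exists_approx [IsNoetherianRing A] [Algebra.FiniteType A B] [Algebra.FiniteType A C]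
    (P : Ideal B) [P.IsPrime] (hG : CAlg.IsGRing (Localization.AtPrime P))
    (φ : C →+* AdicCompletion (maximalIdeal (Localization.AtPrime P)) (Localization.AtPrime P))
    (hφ : ∀ a : A, φ (algebraMap A C a) =
      algebraMap (Localization.AtPrime P) _ (algebraMap B (Localization.AtPrime P) (algebraMap A B a)))
    (N : ℕ) (hN : 1 ≤ N) :
    ∃ (B' : Type u) (_ : CommRing B') (_ : Algebra B B'), Algebra.Etale B B' ∧
      ∃ (P' : Ideal B'), P'.IsPrime ∧ P'.comap (algebraMap B B') = P ∧
        (∀ z : B', ∃ r s : B, s ∉ P ∧ algebraMap B B' s * z - algebraMap B B' r ∈ P') ∧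
        ∃ g : C →+* B', (∀ a : A, g (algebraMap A C a) = algebraMap B B' (algebraMap A B a)) ∧
          (∀ c : C, g c ∈ P' ↔ AdicCompletion.evalₐ (maximalIdeal (Localization.AtPrime P)) 1 (φ c) = 0) ∧
          ∀ (c : C) (r s : B), s ∉ P →
            AdicCompletion.evalₐ (maximalIdeal (Localization.AtPrime P)) N (φ c) *
              Ideal.Quotient.mk _ (algebraMap B (Localization.AtPrime P) s) =
              Ideal.Quotient.mk _ (algebraMap B (Localization.AtPrime P) r) →
            ∃ t ∉ P', t * (algebraMap B B' s * g c - algebraMap B B' r) ∈ P' ^ N := by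
  classical
  haveI : IsNoetherianRing B := Algebra.FiniteType.isNoetherianRing A B
  haveI : Algebra.FinitePresentation A C := Algebra.FinitePresentation.of_finiteType.mp inferInstance
  obtain ⟨n, π, hπ, hker⟩ := (inferInstance : Algebra.FinitePresentation A C).out
  obtain ⟨s₀, hs₀⟩ := hker
  let Lp := Localization.AtPrime P
  let m₀ := maximalIdeal Lp
  let Λ := AdicCompletion m₀ Lp
  let F : Fin s₀.card → MvPolynomial (Fin n) B := fun i => (s₀.equivFin.symm i).1.map (algebraMap A B)
  let a : Fin n → Λ := fun i => φ (π (MvPolynomial.X i))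
  let ιA : A →+* Λ := (algebraMap Lp Λ).comp ((algebraMap B Lp).comp (algebraMap A B))
  have hπa : ∀ f : MvPolynomial (Fin n) A, MvPolynomial.eval₂ ιA a f = φ (π f) := by
    intro f
    have : MvPolynomial.eval₂Hom ιA a = φ.comp π.toRingHom :=
      MvPolynomial.ringHom_ext (fun r => by
        rw [MvPolynomial.eval₂Hom_C]
        show ιA r = φ (π (MvPolynomial.C r))
        rw [← MvPolynomial.algebraMap_eq, AlgHom.commutes, hφ]
        rfl) (fun i => by rw [MvPolynomial.eval₂Hom_X']; rfl)
    exact RingHom.congr_fun this f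
  have ha : ∀ j, MvPolynomial.aeval a (MvPolynomial.map (algebraMap B Lp) (F j)) = 0 := by
    intro j
    rw [MvPolynomial.map_map, MvPolynomial.aeval_def, MvPolynomial.eval₂_map, hπa,
      show π (s₀.equivFin.symm j).1 = 0 from
        RingHom.mem_ker.1 (hs₀ ▸ Ideal.subset_span (s₀.equivFin.symm j).2), map_zero]
  obtain ⟨B', _, _, hB', ψ, P', hP', hψ, hcomap, hres, hψP, b, hb, hab⟩ :=
    CAlg1.Pop.exists_etale_solution_atPrime P hG F a ha N
  refine ⟨B', inferInstance, inferInstance, hB', P', hP', hcomap, hres, ?_⟩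
  let ιA' : A →+* B' := (algebraMap B B').comp (algebraMap A B)
  let gpoly : MvPolynomial (Fin n) A →+* B' := MvPolynomial.eval₂Hom ιA' b
  have hgker : ∀ f ∈ RingHom.ker π, gpoly f = 0 := by
    intro f hf
    replace hf : f ∈ Ideal.span (s₀ : Set (MvPolynomial (Fin n) A)) := hs₀.ge hf
    refine Submodule.span_induction ?_ (map_zero _) ?_ ?_ hf
    · intro z hz
      have h1 := hb (s₀.equivFin ⟨z, hz⟩)
      simp only [F, Equiv.symm_apply_apply, MvPolynomial.aeval_def, MvPolynomial.eval₂_map] at h1
      exact h1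
    · intro p q _ _ hp hq; rw [map_add, hp, hq, add_zero]
    · intro r p _ hp; rw [smul_eq_mul, map_mul, hp, mul_zero]
  let g : C →+* B' := RingHom.liftOfSurjective π.toRingHom hπ ⟨gpoly, hgker⟩
  have hgπ : ∀ f, g (π f) = gpoly f := fun f => RingHom.liftOfRightInverse_comp_apply _ _ _ ⟨gpoly, hgker⟩ f
  let ev : ∀ k, Λ →+* Lp ⧸ m₀ ^ k := fun k => (AdicCompletion.evalₐ m₀ k).toRingHom
  have hevb : ∀ k ≤ N, ∀ i, ev k (a i) = ev k (ψ (b i)) := by
    intro k hk i
    rw [← sub_eq_zero, ← map_sub]
    exact (evalₐ_eq_zero_iff_mem_map k _).2 (Ideal.map_mono (Ideal.pow_le_pow_right hk) (hab i))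
  have hgev : ∀ k ≤ N, ∀ c, ev k (φ c) = ev k (ψ (g c)) := by
    intro k hk c
    obtain ⟨f, rfl⟩ := hπ c
    rw [hgπ]
    have : ((ev k).comp φ).comp π.toRingHom = ((ev k).comp ψ).comp gpoly :=
      MvPolynomial.ringHom_ext (fun r => by
        show ev k (φ (π (MvPolynomial.C r))) = ev k (ψ (gpoly (MvPolynomial.C r)))
        rw [← MvPolynomial.algebraMap_eq, AlgHom.commutes, hφ, MvPolynomial.algebraMap_eq]
        simp only [gpoly, MvPolynomial.eval₂Hom_C, ιA', RingHom.comp_apply, hψ]) (fun i => by
        show ev k (a i) = ev k (ψ (gpoly (MvPolynomial.X i)))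
        simp only [gpoly, MvPolynomial.eval₂Hom_X']
        exact hevb k hk i)
    exact RingHom.congr_fun this f
  -- `P'` is the whole preimage of the maximal ideal
  have hP'eq : ∀ z : B', z ∈ P' ↔ ev 1 (ψ z) = 0 := by
    intro z
    have hmem : ∀ y : Λ, ev 1 y = 0 ↔ y ∈ m₀.map (algebraMap Lp Λ) := fun y =>
      (evalₐ_eq_zero_iff_mem_map (L := Lp) 1 y).trans (by rw [pow_one])
    refine ⟨fun hz => (hmem _).2 (hψP z hz), fun hz => ?_⟩
    obtain ⟨r, s, hs, hrs⟩ := hres z
    have h1 := (hmem _).2 (hψP _ hrs)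
    rw [map_sub, map_mul, map_sub, map_mul, hz, mul_zero, zero_sub, neg_eq_zero, hψ] at h1
    change AdicCompletion.evalₐ m₀ 1 (algebraMap Lp Λ (algebraMap B Lp r)) = 0 at h1
    rw [AlgHom.commutes, Ideal.Quotient.algebraMap_eq, Ideal.Quotient.eq_zero_iff_mem, pow_one,
      IsLocalization.AtPrime.to_map_mem_maximal_iff Lp P, ← hcomap] at h1
    have h2 : algebraMap B B' s * z ∈ P' := by
      have := add_mem hrs h1
      rwa [sub_add_cancel] at this
    exact (hP'.mem_or_mem h2).resolve_left fun h => hs (hcomap ▸ h)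
  refine ⟨g, fun r => ?_, fun c => ?_, fun c r s hs hc => ?_⟩
  · rw [← π.commutes, hgπ]
    exact MvPolynomial.eval₂Hom_C ιA' b r
  · rw [hP'eq, ← hgev 1 hN c]
    rfl
  -- work in the local ring of `B'` at `P'`
  let L' := Localization.AtPrime P'
  let ψL : L' →+* Λ := IsLocalization.lift (M := P'.primeCompl) (g := ψ) fun t =>
    An92unit (fun h => t.2 ((hP'eq _).2 h))
  letI : Algebra Lp L' := (Localization.localRingHom P P' (algebraMap B B') hcomap.symm).toAlgebra
  haveI : IsScalarTower B Lp L' := IsScalarTower.of_algebraMap_eq fun y => by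
    rw [RingHom.algebraMap_toAlgebra, Localization.localRingHom_to_map, ← IsScalarTower.algebraMap_apply]
  haveI : IsLocalHom (algebraMap Lp L') := by
    rw [RingHom.algebraMap_toAlgebra]; infer_instance
  haveI : Algebra.EssFiniteType Lp L' := Algebra.EssFiniteType.of_comp B Lp L'
  haveI : Algebra.FormallyUnramified B' L' := Algebra.FormallyUnramified.of_isLocalization P'.primeCompl
  haveI : Algebra.FormallyUnramified B L' := Algebra.FormallyUnramified.comp B B' L'
  haveI : Algebra.FormallyUnramified Lp L' := Algebra.FormallyUnramified.of_restrictScalars B Lp L'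
  have hmax : (maximalIdeal Lp).map (algebraMap Lp L') = maximalIdeal L' :=
    Algebra.FormallyUnramified.map_maximalIdeal
  have hresL : ∀ w : L', ∃ l, w - algebraMap Lp L' l ∈ maximalIdeal L' := by
    intro w
    obtain ⟨z, t, rfl⟩ := IsLocalization.exists_mk'_eq P'.primeCompl w
    obtain ⟨r, s, hs, hrs⟩ := hres z
    obtain ⟨r', s', hs', hrs'⟩ := hres t
    have hr' : r' ∉ P := fun h => t.2 ((hP'.mem_or_mem (show algebraMap B B' s' * t ∈ P' by
      have h' : algebraMap B B' r' ∈ P' := by rw [← hcomap] at h; exact h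
      have := add_mem hrs' h'; rwa [sub_add_cancel] at this)).resolve_left fun h'' => hs' (hcomap ▸ h''))
    have hu : (s * r') ∈ P.primeCompl := P.primeCompl.mul_mem hs hr'
    refine ⟨IsLocalization.mk' Lp (r * s') ⟨s * r', hu⟩, ?_⟩
    have hden : IsUnit (algebraMap B L' (s * r') * algebraMap B' L' t) := by
      refine IsUnit.mul ?_ (IsLocalization.map_units L' t)
      rw [IsScalarTower.algebraMap_apply B Lp L']
      exact (IsLocalization.map_units Lp (⟨s * r', hu⟩ : P.primeCompl)).map _
    refine (Ideal.mul_unit_mem_iff_mem _ hden).1 ?_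
    have e1 : IsLocalization.mk' L' z t * algebraMap B' L' t = algebraMap B' L' z := IsLocalization.mk'_spec _ _ _
    have e2 : algebraMap Lp L' (IsLocalization.mk' Lp (r * s') ⟨s * r', hu⟩) * algebraMap B L' (s * r') =
        algebraMap B L' (r * s') := by
      rw [IsScalarTower.algebraMap_apply B Lp L' (s * r'), ← map_mul, IsLocalization.mk'_spec,
        ← IsScalarTower.algebraMap_apply]
    have key : (IsLocalization.mk' L' z t - algebraMap Lp L' (IsLocalization.mk' Lp (r * s') ⟨s * r', hu⟩)) *
        (algebraMap B L' (s * r') * algebraMap B' L' t) =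
        algebraMap B' L' ((algebraMap B B' s * z - algebraMap B B' r) * algebraMap B B' r' -
          algebraMap B B' r * (algebraMap B B' s' * t - algebraMap B B' r')) := by
      rw [sub_mul, mul_left_comm, e1, ← mul_assoc, e2]
      simp only [IsScalarTower.algebraMap_apply B B' L', map_mul, map_sub]
      ring
    rw [key, IsLocalization.AtPrime.to_map_mem_maximal_iff L' P']
    exact sub_mem (P'.mul_mem_right _ hrs) (P'.mul_mem_left _ hrs')
  set x : L' := algebraMap B' L' (algebraMap B B' s * g c - algebraMap B B' r)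
  obtain ⟨l, hl⟩ := Unr55.forall_exists_sub_mem_pow hmax hresL N x
  let θ : L' →+* Lp ⧸ m₀ ^ N := (ev N).comp ψL
  have hθψ : ∀ z : B', θ (algebraMap B' L' z) = ev N (ψ z) := fun z => by
    show ev N (ψL (algebraMap B' L' z)) = _
    rw [IsLocalization.lift_eq]
  have hθLp : ∀ l : Lp, θ (algebraMap Lp L' l) = Ideal.Quotient.mk _ l := by
    have : θ.comp (algebraMap Lp L') = Ideal.Quotient.mk _ :=
      IsLocalization.ringHom_ext P.primeCompl (RingHom.ext fun y => by
        simp only [RingHom.comp_apply, ← IsScalarTower.algebraMap_apply B Lp L']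
        rw [IsScalarTower.algebraMap_apply B B' L', hθψ, hψ]
        exact (AdicCompletion.evalₐ m₀ N).commutes _)
    exact RingHom.congr_fun this
  have hθpow : ∀ w ∈ maximalIdeal L' ^ N, θ w = 0 := by
    intro w hw
    rw [← hmax, ← Ideal.map_pow] at hw
    refine (Ideal.map_le_iff_le_comap.2 fun l hl => ?_ : _ ≤ RingHom.ker θ) hw
    show θ (algebraMap Lp L' l) = 0
    rw [hθLp, Ideal.Quotient.eq_zero_iff_mem]
    exact hl
  have hθx : θ x = 0 := by
    rw [hθψ, map_sub, map_mul, map_sub, map_mul, ← hgev N le_rfl c, hψ, hψ, sub_eq_zero]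
    change AdicCompletion.evalₐ m₀ N (algebraMap Lp Λ _) * AdicCompletion.evalₐ m₀ N (φ c) =
      AdicCompletion.evalₐ m₀ N (algebraMap Lp Λ _)
    rw [AlgHom.commutes, AlgHom.commutes, mul_comm]
    exact hc
  have hlN : l ∈ m₀ ^ N := by
    have := hθpow _ hl
    rw [map_sub, hθx, hθLp, zero_sub, neg_eq_zero] at this
    exact Ideal.Quotient.eq_zero_iff_mem.1 this
  have hxN : x ∈ (P' ^ N).map (algebraMap B' L') := by
    rw [Ideal.map_pow, Localization.AtPrime.map_eq_maximalIdeal]
    have : algebraMap Lp L' l ∈ maximalIdeal L' ^ N := by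
      rw [← hmax, ← Ideal.map_pow]; exact Ideal.mem_map_of_mem _ hlN
    have := add_mem hl this
    rwa [sub_add_cancel] at this
  exact (IsLocalization.algebraMap_mem_map_algebraMap_iff P'.primeCompl L' _ _).1 hxN
where
  /-- a unit criterion -/
  An92unit {L : Type u} [CommRing L] [IsLocalRing L] [IsNoetherianRing L]
      {y : AdicCompletion (maximalIdeal L) L} (h : AdicCompletion.evalₐ (maximalIdeal L) 1 y ≠ 0) : IsUnit y := by
    by_contra hy
    refine h ((evalₐ_eq_zero_iff_mem_map 1 y).2 ?_)
    rw [pow_one, AdicCompletion.maximalIdeal_eq_map.symm]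
    exact hy

end Groth.Agent.EtNhd31
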