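import Groth.Agent.EtNhd31.Desc3
import Groth.Agent.EtNhd31.Core
import Groth.Agent.An92.FSch.Stalk
import Groth.Agent.EGA4H10.FormalFibreEFT

/-!
From a common étale neighbourhood over the completion to one over an étale neighbourhood.
-/

set_option autoImplicit false
set_option linter.style.haveILetI false
universe u

open IsLocalRing TensorProduct

namespace Groth.Agent.EtNhd31

/-- The fractions of the image of `h` in a domain are closed under division. -/
theorem exists_fraction_of_closure {Q K : Type u} [CommRing Q] [CommRing K] [IsDomain K] (h : Q →+* K)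
    {k k' z : K} (hk : ∃ r s, h s ≠ 0 ∧ h s * k = h r) (hk' : ∃ r s, h s ≠ 0 ∧ h s * k' = h r)
    (hk0 : k ≠ 0) (hz : k * z = k') : ∃ r s, h s ≠ 0 ∧ h s * z = h r := by
  obtain ⟨r, s, hs, e⟩ := hk
  obtain ⟨r', s', hs', e'⟩ := hk'
  have hr : h r ≠ 0 := e ▸ mul_ne_zero hs hk0
  refine ⟨s * r', r * s', by rw [map_mul]; exact mul_ne_zero hr hs', ?_⟩
  rw [map_mul, map_mul]
  linear_combination (h s * h s') * hz - (h s' * z) * e + (h s) * e'

theorem exists_descended_pair {A R Os B C W : Type u} [CommRing A] [IsNoetherianRing A] [CommRing R]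
    [Algebra.FiniteType ℤ R] [CommRing Os] [IsLocalRing Os] [IsNoetherianRing Os] (p : Ideal A) [p.IsPrime]
    [Algebra A Os] [IsLocalization.AtPrime Os p] (hG : CAlg.IsGRing Os)
    [CommRing B] [Algebra A B] [Algebra.FiniteType A B] [CommRing C] [Algebra R C] [Algebra.FiniteType R C]
    [CommRing W]
    [Algebra R (AdicCompletion (maximalIdeal Os) Os)] [Algebra (AdicCompletion (maximalIdeal Os) Os) W]
    (gB : (AdicCompletion (maximalIdeal Os) Os) ⊗[A] B →ₐ[AdicCompletion (maximalIdeal Os) Os] W)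
    (hgB : gB.toRingHom.Etale)
    (gC : (AdicCompletion (maximalIdeal Os) Os) ⊗[R] C →ₐ[AdicCompletion (maximalIdeal Os) Os] W)
    (hgC : gC.toRingHom.Etale) (Pu : Ideal W) [Pu.IsPrime]
    (hPu : ∀ l : AdicCompletion (maximalIdeal Os) Os, algebraMap (AdicCompletion (maximalIdeal Os) Os) W l ∈ Pu ↔
      l ∈ maximalIdeal (AdicCompletion (maximalIdeal Os) Os))
    (hfB : ∀ z : W, ∃ r s : B, gB (1 ⊗ₜ[A] s) ∉ Pu ∧ gB (1 ⊗ₜ[A] s) * z - gB (1 ⊗ₜ[A] r) ∈ Pu)
    (hfC : ∀ z : W, ∃ r s, gC s ∉ Pu ∧ gC s * z - gC r ∈ Pu) :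
    ∃ (A' : Type u) (_ : CommRing A') (ι : A →+* A'),
      letI : Algebra A A' := ι.toAlgebra
      ∃ (P' : Ideal A'), P'.IsPrime ∧ Algebra.Etale A A' ∧
      P'.comap (algebraMap A A') = p ∧
      (∀ z : A', ∃ r s : A, s ∉ p ∧ algebraMap A A' s * z - algebraMap A A' r ∈ P') ∧
      ∃ (ρ' : R →+* A'), (∀ r, ρ' r ∈ P' ↔
          algebraMap R (AdicCompletion (maximalIdeal Os) Os) r ∈ maximalIdeal (AdicCompletion (maximalIdeal Os) Os)) ∧
      letI : Algebra R A' := ρ'.toAlgebra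
      ∃ (WV : Type u) (_ : CommRing WV) (kB : A' ⊗[A] B →+* WV) (kC : A' ⊗[R] C →+* WV) (w : Ideal WV),
        w.IsPrime ∧ kB.Etale ∧ kC.Etale ∧ (∀ a, kB (a ⊗ₜ[A] 1) = kC (a ⊗ₜ[R] 1)) ∧
        (∀ a, kC (a ⊗ₜ[R] 1) ∈ w ↔ a ∈ P') ∧
        (∀ b, kB (1 ⊗ₜ[A] b) ∈ w ↔ gB (1 ⊗ₜ[A] b) ∈ Pu) ∧
        (∀ c, kC (1 ⊗ₜ[R] c) ∈ w ↔ gC (1 ⊗ₜ[R] c) ∈ Pu) ∧
        (∀ z, ∃ r s : B, kB (1 ⊗ₜ[A] s) ∉ w ∧ kB (1 ⊗ₜ[A] s) * z - kB (1 ⊗ₜ[A] r) ∈ w) ∧
        ∀ z, ∃ r s, kC s ∉ w ∧ kC s * z - kC r ∈ w := by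
  classical
  let L := AdicCompletion (maximalIdeal Os) Os
  have halgA : ∀ a : A, algebraMap A L a = algebraMap Os L (algebraMap A Os a) :=
    fun a => IsScalarTower.algebraMap_apply A Os L a
  obtain ⟨E, _, _, _, hEft, ε, hεA, hεR, W', _, _, hB, hC, π, hhB, hhC, hπ, hπB, hπC⟩ :=
    Desc.exists_model_two_bases A R L B C W gB hgB gC hgC
  -- transfer to the standard localization
  let Lp := Localization.AtPrime p
  let e0 : Os ≃ₐ[A] Lp := IsLocalization.algEquiv p.primeCompl _ _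
  have hGL : CAlg.IsGRing Lp := EGA4H10.isGRing_of_ringEquiv e0.toRingEquiv hG
  haveI : IsNoetherianRing Lp := hGL.1
  have hmap : (maximalIdeal Os).map e0.toRingEquiv.toRingHom ≤ maximalIdeal Lp :=
    Ideal.map_le_iff_le_comap.2 fun z hz => by
      rw [Ideal.mem_comap, mem_maximalIdeal, mem_nonunits_iff] at *
      exact fun h => hz ((isUnit_map_iff e0.toRingEquiv z).1 h)
  have hmap' : (maximalIdeal Lp).map e0.symm.toRingEquiv.toRingHom ≤ maximalIdeal Os :=
    Ideal.map_le_iff_le_comap.2 fun z hz => by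
      rw [Ideal.mem_comap, mem_maximalIdeal, mem_nonunits_iff] at *
      exact fun h => hz ((isUnit_map_iff e0.symm.toRingEquiv z).1 h)
  let Λ := AdicCompletion (maximalIdeal Lp) Lp
  let θ : L →+* Λ := FSch.complMap _ (maximalIdeal Lp) e0.toRingEquiv.toRingHom hmap
  let θ' : Λ →+* L := FSch.complMap _ (maximalIdeal Os) e0.symm.toRingEquiv.toRingHom hmap'
  have hθA : ∀ a, θ (algebraMap A L a) = algebraMap Lp Λ (algebraMap A Lp a) := fun a => by
    rw [halgA, An92.FSch.complMap_algebraMap]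
    exact congrArg _ (e0.commutes a)
  have hθθ : ∀ l, θ' (θ l) = l := fun l => by
    refine AdicCompletion.ext_evalₐ fun n => ?_
    rw [An92.FSch.evalₐ_complMap, An92.FSch.evalₐ_complMap]
    obtain ⟨o, ho⟩ := Ideal.Quotient.mk_surjective (AdicCompletion.evalₐ (maximalIdeal Os) n l)
    rw [← ho, Ideal.quotientMap_mk, Ideal.quotientMap_mk]
    exact congrArg _ (e0.symm_apply_apply o)
  -- approximate
  haveI : Algebra.FiniteType A E := hEft
  haveI : Algebra.FinitePresentation A E := Algebra.FinitePresentation.of_finiteType.mp inferInstance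
  obtain ⟨n, πE, hπE, hker⟩ := (inferInstance : Algebra.FinitePresentation A E).out
  obtain ⟨m, F, hF⟩ := Submodule.fg_iff_exists_fin_generating_family.1 hker
  let a : Fin n → Λ := fun i => θ (ε (πE (MvPolynomial.X i)))
  have ha : ∀ j, MvPolynomial.aeval a (MvPolynomial.map (algebraMap A Lp) (F j)) = 0 := by
    intro j
    have h1 : MvPolynomial.eval₂Hom ((algebraMap Lp Λ).comp (algebraMap A Lp)) a = (θ.comp ε).comp πE.toRingHom :=
      MvPolynomial.ringHom_ext (fun r => by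
        rw [MvPolynomial.eval₂Hom_C]
        show _ = θ (ε (πE (MvPolynomial.C r)))
        rw [← MvPolynomial.algebraMap_eq, AlgHom.commutes, hεA, hθA]
        rfl) (fun i => by rw [MvPolynomial.eval₂Hom_X']; rfl)
    rw [MvPolynomial.aeval_def, MvPolynomial.eval₂_map]
    refine (RingHom.congr_fun h1 (F j)).trans ?_
    show θ (ε (πE (F j))) = 0
    rw [show πE (F j) = 0 from (hF ▸ Submodule.subset_span ⟨j, rfl⟩ : F j ∈ RingHom.ker πE), map_zero, map_zero]
  obtain ⟨A', _, _, hA', ψ, P', hP', hψ, hcomap, hres, hψP, b, hb, hab⟩ :=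
    CAlg1.Pop.exists_etale_solution_atPrime p hGL F a ha 1
  let g : MvPolynomial (Fin n) A →ₐ[A] A' := MvPolynomial.aeval b
  have hg : ∀ f ∈ RingHom.ker πE, g f = 0 := by
    intro f hf
    have hle : RingHom.ker πE ≤ RingHom.ker g := by
      show RingHom.ker πE.toRingHom ≤ _
      rw [← hF]
      refine Submodule.span_le.2 ?_
      rintro _ ⟨j, rfl⟩
      exact hb j
    exact hle hf
  let θE : E →+* A' := RingHom.liftOfSurjective πE.toRingHom hπE ⟨g.toRingHom, hg⟩
  have hθEπ : ∀ f, θE (πE f) = g f := fun f => RingHom.liftOfRightInverse_comp_apply _ _ _ ⟨g.toRingHom, hg⟩ f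
  have hθEA : ∀ r, θE (algebraMap A E r) = algebraMap A A' r := fun r => by
    rw [← πE.commutes, hθEπ, AlgHom.commutes]
  let ρ' : R →+* A' := θE.comp (algebraMap R E)
  -- the maps to the residue domain
  let χ : W →+* W ⧸ Pu := Ideal.Quotient.mk Pu
  let χL : L →+* W ⧸ Pu := χ.comp (algebraMap L W)
  have hχL : ∀ l, χL l = 0 ↔ l ∈ maximalIdeal L := fun l => Ideal.Quotient.eq_zero_iff_mem.trans (hPu l)
  have hθ'm : ∀ z ∈ (maximalIdeal Lp).map (algebraMap Lp Λ), θ' z ∈ maximalIdeal L := by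
    intro z hz
    refine (Ideal.map_le_iff_le_comap.2 fun y hy => ?_ : _ ≤ (maximalIdeal L).comap θ') hz
    show θ' (algebraMap Lp Λ y) ∈ maximalIdeal L
    rw [An92.FSch.complMap_algebraMap, AdicCompletion.maximalIdeal_eq_map]
    exact Ideal.mem_map_of_mem _ (hmap' (Ideal.mem_map_of_mem _ hy))
  let χA : A' →+* W ⧸ Pu := χL.comp (θ'.comp ψ)
  have hχAA : ∀ r, χA (algebraMap A A' r) = χL (algebraMap A L r) := fun r => by
    show χL (θ' (ψ (algebraMap A A' r))) = _
    rw [hψ, ← hθA, hθθ]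
  have hcong : ∀ e, χA (θE e) = χL (ε e) := by
    intro e
    obtain ⟨f, rfl⟩ := hπE e
    have : χA.comp (θE.comp πE.toRingHom) = χL.comp (ε.comp πE.toRingHom) :=
      MvPolynomial.ringHom_ext (fun r => by
        show χA (θE (πE (MvPolynomial.C r))) = χL (ε (πE (MvPolynomial.C r)))
        rw [← MvPolynomial.algebraMap_eq, AlgHom.commutes, hθEA, hεA, hχAA]) (fun i => by
        show χA (θE (πE (MvPolynomial.X i))) = χL (ε (πE (MvPolynomial.X i)))
        rw [hθEπ]
        show χL (θ' (ψ (MvPolynomial.aeval b (MvPolynomial.X i)))) = _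
        rw [MvPolynomial.aeval_X]
        have h1 := hθ'm _ (show a i - ψ (b i) ∈ (maximalIdeal Lp).map (algebraMap Lp Λ) by
          have := hab i; rwa [pow_one] at this)
        rw [← hχL, map_sub θ', map_sub, sub_eq_zero] at h1
        rw [← h1, hθθ])
    exact RingHom.congr_fun this f
  have hχAP : ∀ z, χA z = 0 ↔ z ∈ P' := by
    have hP'0 : ∀ z ∈ P', χA z = 0 := fun z hz => (hχL _).2 (hθ'm _ (hψP z hz))
    have hp0 : ∀ r, χA (algebraMap A A' r) = 0 → r ∈ p := by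
      intro r hr
      rw [hχAA, hχL, halgA] at hr
      by_contra hn
      exact (mem_maximalIdeal _).1 hr ((IsLocalization.map_units Os (⟨r, hn⟩ : p.primeCompl)).map _)
    refine fun z => ⟨fun hz => ?_, hP'0 z⟩
    obtain ⟨r, s, hs, hrs⟩ := hres z
    have h1 := hP'0 _ hrs
    rw [map_sub, map_mul, hz, mul_zero, zero_sub, neg_eq_zero] at h1
    have h2 : algebraMap A A' r ∈ P' := by
      have := hp0 r h1; rw [← hcomap] at this; exact this
    have := add_mem hrs h2
    rw [sub_add_cancel] at this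
    exact (hP'.mem_or_mem this).resolve_left fun h => hs (hcomap ▸ h)
  refine ⟨A', inferInstance, algebraMap A A', ?_⟩
  rw [show (algebraMap A A').toAlgebra = ‹Algebra A A'› from Algebra.algebra_ext _ _ fun _ => rfl]
  refine ⟨P', hP', hA', hcomap, hres, ρ', fun r => ?_, ?_⟩
  · rw [← hχAP, ← hεR, ← hχL]
    show χA (θE (algebraMap R E r)) = 0 ↔ _
    rw [hcong]
  letI : Algebra R A' := ρ'.toAlgebra
  obtain ⟨WV, _, lam, mW, kB, kC, hkB, hkC, hmW, hkBt, hkCt, hgen, hlift⟩ :=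
    Desc.exists_bc_model θE hθEA (fun r => rfl) hB hC hhB hhC
  obtain ⟨χV, hVlam, hVm⟩ := hlift (W ⧸ Pu) χA (χ.comp π) fun e => by
    rw [RingHom.comp_apply, hπ, hcong]; rfl
  have hl1 : ∀ x, kB (x ⊗ₜ[A] 1) = lam x := fun x => by
    rw [hkBt, show (1 : E) ⊗ₜ[A] (1 : B) = 1 from rfl, map_one, map_one, mul_one]
  have hl2 : ∀ x, kC (x ⊗ₜ[R] 1) = lam x := fun x => by
    rw [hkCt, show (1 : E) ⊗ₜ[R] (1 : C) = 1 from rfl, map_one, map_one, mul_one]
  have hVB : ∀ b, χV (kB (1 ⊗ₜ[A] b)) = χ (gB (1 ⊗ₜ[A] b)) := fun b => by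
    rw [hkBt, map_one, one_mul, hVm, RingHom.comp_apply, hπB]
  have hVC : ∀ c, χV (kC (1 ⊗ₜ[R] c)) = χ (gC (1 ⊗ₜ[R] c)) := fun c => by
    rw [hkCt, map_one, one_mul, hVm, RingHom.comp_apply, hπC]
  refine ⟨WV, inferInstance, kB, kC, RingHom.ker χV, RingHom.ker_isPrime _, hkB, hkC,
    fun x => (hl1 x).trans (hl2 x).symm, fun x => ?_, fun b => ?_, fun c => ?_, fun z => ?_, fun z => ?_⟩
  · rw [RingHom.mem_ker, hl2, hVlam, hχAP]
  · rw [RingHom.mem_ker, hVB]; exact Ideal.Quotient.eq_zero_iff_mem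
  · rw [RingHom.mem_ker, hVC]; exact Ideal.Quotient.eq_zero_iff_mem
  · obtain ⟨x, hx⟩ := Ideal.Quotient.mk_surjective (χV z)
    obtain ⟨r, s, hs, hrs⟩ := hfB x
    refine ⟨r, s, fun h => hs ?_, ?_⟩
    · rw [RingHom.mem_ker, hVB] at h; exact Ideal.Quotient.eq_zero_iff_mem.1 h
    · rw [RingHom.mem_ker, map_sub, map_mul, hVB, hVB, ← hx, ← map_mul, ← map_sub]
      exact Ideal.Quotient.eq_zero_iff_mem.2 hrs
  · let h : A' ⊗[R] C →+* W ⧸ Pu := χV.comp kC
    let Fr : W ⧸ Pu → Prop := fun k => ∃ r s, h s ≠ 0 ∧ h s * k = h r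
    have hFh : ∀ q, Fr (h q) := fun q => ⟨q, 1, by rw [map_one]; exact one_ne_zero, by rw [map_one, one_mul]⟩
    have hFadd : ∀ j k, Fr j → Fr k → Fr (j + k) := by
      rintro j k ⟨r, s, hs, e⟩ ⟨r', s', hs', e'⟩
      refine ⟨r * s' + r' * s, s * s', by rw [map_mul]; exact mul_ne_zero hs hs', ?_⟩
      simp only [map_add, map_mul]
      linear_combination (h s') * e + (h s) * e'
    have hFmul : ∀ j k, Fr j → Fr k → Fr (j * k) := by
      rintro j k ⟨r, s, hs, e⟩ ⟨r', s', hs', e'⟩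
      refine ⟨r * r', s * s', by rw [map_mul]; exact mul_ne_zero hs hs', ?_⟩
      simp only [map_mul]
      linear_combination (h s' * k) * e + (h r) * e'
    have hFdiv : ∀ k k' z, Fr k → Fr k' → k ≠ 0 → k * z = k' → Fr z := fun k k' z hk hk' h0 e =>
      exists_fraction_of_closure h hk hk' h0 e
    have hFA : ∀ r : A, Fr (χL (algebraMap A L r)) := fun r => by
      have := hFh (algebraMap A A' r ⊗ₜ[R] (1 : C))
      rwa [show h (algebraMap A A' r ⊗ₜ[R] (1 : C)) = χL (algebraMap A L r) by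
        show χV (kC _) = _; rw [hl2, hVlam, hχAA]] at this
    have hFL : ∀ l, Fr (χL l) := by
      intro l
      obtain ⟨o, ho⟩ := Ideal.Quotient.mk_surjective (AdicCompletion.evalₐ (maximalIdeal Os) 1 l)
      have h0 : l - algebraMap Os L o ∈ maximalIdeal L := by
        rw [AdicCompletion.maximalIdeal_eq_map]
        have := (evalₐ_eq_zero_iff_mem_map 1 (l - algebraMap Os L o)).1 (by
          rw [map_sub, AlgHom.commutes, ← ho]; exact sub_self _)
        rwa [pow_one] at this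
      rw [← hχL, map_sub, sub_eq_zero] at h0
      obtain ⟨⟨r, s⟩, hrs⟩ := IsLocalization.surj p.primeCompl o
      refine hFdiv (χL (algebraMap A L s)) (χL (algebraMap A L r)) _ (hFA _) (hFA _) (fun hc => ?_) ?_
      · rw [hχL, halgA] at hc
        exact (mem_maximalIdeal _).1 hc ((IsLocalization.map_units Os s).map _)
      · rw [h0, ← map_mul, halgA, halgA, ← map_mul, mul_comm (algebraMap A Os (s : A)), hrs]
    have hFCL : ∀ q, Fr (χ (gC q)) := by
      intro q
      induction q using TensorProduct.induction_on with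
      | zero => rw [map_zero, map_zero, ← map_zero h]; exact hFh 0
      | add x y hx hy => rw [map_add, map_add]; exact hFadd _ _ hx hy
      | tmul l c =>
        rw [show l ⊗ₜ[R] c = algebraMap L (L ⊗[R] C) l * ((1 : L) ⊗ₜ[R] c) by
          rw [Algebra.TensorProduct.algebraMap_apply, Algebra.TensorProduct.tmul_mul_tmul, mul_one, one_mul]; rfl,
          map_mul, map_mul, AlgHom.commutes, ← hVC]
        exact hFmul _ _ (hFL l) (hFh _)
    obtain ⟨x, hx⟩ := Ideal.Quotient.mk_surjective (χV z)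
    obtain ⟨r, s, hs, hrs⟩ := hfC x
    obtain ⟨r', s', hs', e⟩ := hFdiv (χ (gC s)) (χ (gC r)) (χ x) (hFCL s) (hFCL r)
      (fun hc => hs (Ideal.Quotient.eq_zero_iff_mem.1 hc)) (by rw [← map_mul]; exact Ideal.Quotient.eq.2 hrs)
    refine ⟨r', s', hs', ?_⟩
    rw [RingHom.mem_ker, map_sub, map_mul, ← hx]
    exact sub_eq_zero.2 e

end Groth.Agent.EtNhd31
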