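import Mathlib.AlgebraicGeometry.AffineScheme
import Mathlib.AlgebraicGeometry.ResidueField
import Mathlib.AlgebraicGeometry.Morphisms.Basic

/-!
Stalks of a morphism from an affine scheme into an affine chart.
-/

set_option autoImplicit false
universe u

open CategoryTheory AlgebraicGeometry IsLocalRing

namespace Groth.Agent.EtNhd31

theorem isPrime_spec {R : CommRingCat.{u}} (x : Spec R) : (PrimeSpectrum.asIdeal x).IsPrime :=
  PrimeSpectrum.isPrime x

attribute [local instance] isPrime_spec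

/-- The map from a ring to a stalk of its spectrum. -/
noncomputable def toStk (R : CommRingCat.{u}) (x : Spec R) : R →+* (Spec R).presheaf.stalk x :=
  ((Scheme.ΓSpecIso R).inv ≫ (Spec R).presheaf.germ ⊤ x trivial).hom

theorem toStk_eq (R : CommRingCat.{u}) (x : Spec R) (r : R) :
    toStk R x r = (Spec.stalkIso R x).inv.hom (algebraMap R (Localization.AtPrime (PrimeSpectrum.asIdeal x)) r) :=
  (congr($(Spec.algebraMap_stalkIso_inv x) r)).symm

theorem toStk_mem_iff (R : CommRingCat.{u}) (x : Spec R) (r : R) :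
    toStk R x r ∈ maximalIdeal ((Spec R).presheaf.stalk x) ↔ r ∈ PrimeSpectrum.asIdeal x := by
  rw [toStk_eq, ← IsLocalization.AtPrime.to_map_mem_maximal_iff (Localization.AtPrime (PrimeSpectrum.asIdeal x))
    (PrimeSpectrum.asIdeal x), mem_maximalIdeal, mem_maximalIdeal, mem_nonunits_iff, mem_nonunits_iff]
  refine not_congr ?_
  exact isUnit_map_iff ((Spec.stalkIso R x).commRingCatIsoToRingEquiv.symm) _

theorem toStk_surj (R : CommRingCat.{u}) (x : Spec R) (w : (Spec R).presheaf.stalk x) :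
    ∃ z t : R, t ∉ PrimeSpectrum.asIdeal x ∧ w * toStk R x t = toStk R x z := by
  obtain ⟨⟨z, t⟩, h⟩ := IsLocalization.surj (PrimeSpectrum.asIdeal x).primeCompl
    ((Spec.stalkIso R x).hom.hom w)
  refine ⟨z, t, t.2, ?_⟩
  have := congrArg (Spec.stalkIso R x).inv.hom h
  rw [map_mul] at this
  rw [toStk_eq, toStk_eq]
  refine Eq.trans ?_ this
  congr 1
  exact (congr($((Spec.stalkIso R x).hom_inv_id) w)).symm

theorem toStk_pow_mem (R : CommRingCat.{u}) (x : Spec R) (N : ℕ) {r : R}
    (h : r ∈ (PrimeSpectrum.asIdeal x) ^ N) :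
    toStk R x r ∈ maximalIdeal ((Spec R).presheaf.stalk x) ^ N := by
  have hle : (PrimeSpectrum.asIdeal x).map (toStk R x) ≤ maximalIdeal ((Spec R).presheaf.stalk x) :=
    Ideal.map_le_iff_le_comap.2 fun z hz => (toStk_mem_iff R x z).2 hz
  have := Ideal.mem_map_of_mem (toStk R x) h
  rw [Ideal.map_pow] at this
  exact Ideal.pow_right_mono hle N this

variable {X : Scheme.{u}} {V : X.Opens} (hV : IsAffineOpen V)

theorem germ_stalkMap_appLE {Y : Scheme.{u}} (f : X ⟶ Y) (U : Y.Opens) (h : V ≤ f ⁻¹ᵁ U) (x : X) (hx : x ∈ V)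
    (hfx : f x ∈ U) (a : Γ(Y, U)) :
    (f.stalkMap x).hom (Y.presheaf.germ U (f x) hfx a) = X.presheaf.germ V x hx ((f.appLE U V h).hom a) := by
  rw [Scheme.Hom.germ_stalkMap_apply]
  exact (X.presheaf.germ_res_apply (homOfLE h) x hx _).symm

theorem stalkMap_germ {R : CommRingCat.{u}} (ψ : Γ(X, V) ⟶ R) (u : Spec R) (x : X)
    (he : (Spec.map ψ ≫ hV.fromSpec) u = x) (hx : x ∈ V) (b : Γ(X, V)) :
    ((Spec.map ψ ≫ hV.fromSpec).stalkMap u).hom
      ((X.presheaf.stalkCongr (Inseparable.of_eq he)).inv.hom (X.presheaf.germ V x hx b)) =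
      toStk R u (ψ b) := by
  subst he
  rw [show (X.presheaf.stalkCongr (Inseparable.of_eq (rfl : (Spec.map ψ ≫ hV.fromSpec) u = _))).inv = 𝟙 _ from
    TopCat.Presheaf.stalkSpecializes_refl X.presheaf _]
  have hle : (⊤ : (Spec R).Opens) ≤ (Spec.map ψ ≫ hV.fromSpec) ⁻¹ᵁ V := by
    simp [hV.fromSpec_preimage_self]
  have happ : (Spec.map ψ ≫ hV.fromSpec).appLE V ⊤ hle = ψ ≫ (Scheme.ΓSpecIso R).inv := by
    rw [Scheme.Hom.comp_appLE, hV.fromSpec_app_self, Category.assoc]
    erw [Scheme.Hom.map_appLE]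
    rw [Scheme.ΓSpecIso_inv_naturality]
    simp [Scheme.Hom.appLE, Scheme.Hom.appTop]
    try erw [CategoryTheory.Functor.map_id, Category.comp_id]
  refine (germ_stalkMap_appLE _ V hle u trivial hx b).trans ?_
  rw [happ]
  rfl

/-- A residue field extension is trivial if every element of the source stalk is congruent to one
from the target. -/
theorem residueFieldMap_bijective {U Y : Scheme.{u}} (f : U ⟶ Y) (u : U)
    (h : ∀ w : U.presheaf.stalk u, ∃ z : Y.presheaf.stalk (f u), w - (f.stalkMap u).hom z ∈ maximalIdeal _) :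
    Function.Bijective (f.residueFieldMap u) := by
  refine ⟨(f.residueFieldMap u).hom.injective, fun y => ?_⟩
  obtain ⟨w, rfl⟩ := U.residue_surjective u y
  obtain ⟨z, hz⟩ := h w
  refine ⟨Y.residue (f u) z, ?_⟩
  have := congr($(Scheme.residue_residueFieldMap f u) z)
  refine this.trans ?_
  exact (Ideal.Quotient.eq.2 hz).symm

end Groth.Agent.EtNhd31
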