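import Mathlib.RingTheory.TensorProduct.DirectLimitFG
import Mathlib.RingTheory.FinitePresentation
import Mathlib.RingTheory.RingHom.Etale
import Mathlib.RingTheory.Smooth.NoetherianDescent
import Mathlib.RingTheory.Etale.Basic

/-!
Descent of étale algebras and of isomorphisms along the finitely generated subalgebras of an algebra.
-/

set_option autoImplicit false
set_option linter.style.haveILetI false
universe u

open TensorProduct

namespace Groth.Agent.EtNhd31.Desc

variable {R L : Type u} [CommRing R] [CommRing L] [Algebra R L]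
variable {N : Type u} [CommRing N] [Algebra R N]

/-- Transition map. -/
noncomputable def tr {E E' : Subalgebra R L} (h : E ≤ E') : E ⊗[R] N →ₐ[R] E' ⊗[R] N :=
  Algebra.TensorProduct.map (Subalgebra.inclusion h) (AlgHom.id R N)

/-- The map to the top. -/
noncomputable def top (E : Subalgebra R L) : E ⊗[R] N →ₐ[R] L ⊗[R] N :=
  Algebra.TensorProduct.map E.val (AlgHom.id R N)

theorem top_tr {E E' : Subalgebra R L} (h : E ≤ E') (x : E ⊗[R] N) : top E' (tr h x) = top E x := by
  have : (top (N := N) E').comp (tr h) = top E :=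
    Algebra.TensorProduct.ext (AlgHom.ext fun _ => rfl) (AlgHom.ext fun _ => rfl)
  exact DFunLike.congr_fun this x

theorem tr_tr {E E' E'' : Subalgebra R L} (h : E ≤ E') (h' : E' ≤ E'') (x : E ⊗[R] N) :
    tr h' (tr h x) = tr (h.trans h') x := by
  have : (tr (N := N) h').comp (tr h) = tr (h.trans h') :=
    Algebra.TensorProduct.ext (AlgHom.ext fun _ => rfl) (AlgHom.ext fun _ => rfl)
  exact DFunLike.congr_fun this x

theorem fg_bot : (⊥ : Subalgebra R L).FG := Subalgebra.fg_bot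

theorem exists_preimages {ι : Type*} [Finite ι] (v : ι → L ⊗[R] N) :
    ∃ (E : Subalgebra R L), E.FG ∧ ∀ i, ∃ w : E ⊗[R] N, top E w = v i := by
  classical
  cases nonempty_fintype ι
  choose E hE hv using fun i => TensorProduct.Algebra.exists_of_fg (v i)
  suffices H : ∀ s : Finset ι, (s.sup E).FG from ⟨Finset.univ.sup E, H _, fun i => by
    obtain ⟨w, hw⟩ := hv i
    refine ⟨tr (Finset.le_sup (f := E) (Finset.mem_univ i)) w, ?_⟩
    rw [top_tr]; exact hw⟩
  intro s
  induction s using Finset.induction with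
  | empty => rw [Finset.sup_empty]; exact Subalgebra.fg_bot
  | insert a s _ ih => rw [Finset.sup_insert]; exact (hE a).sup ih

theorem exists_eq {ι : Type*} [Finite ι] {E : Subalgebra R L} (hE : E.FG) (v w : ι → E ⊗[R] N)
    (h : ∀ i, top E (v i) = top E (w i)) :
    ∃ (E' : Subalgebra R L) (hle : E ≤ E'), E'.FG ∧ ∀ i, tr hle (v i) = tr hle (w i) := by
  classical
  cases nonempty_fintype ι
  suffices H : ∀ s : Finset ι, ∃ (E' : Subalgebra R L) (hle : E ≤ E'), E'.FG ∧
      ∀ i ∈ s, tr hle (v i) = tr hle (w i) by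
    obtain ⟨E', hle, hfg, hh⟩ := H Finset.univ
    exact ⟨E', hle, hfg, fun i => hh i (Finset.mem_univ i)⟩
  intro s
  induction s using Finset.induction with
  | empty => exact ⟨E, le_rfl, hE, fun i hi => absurd hi (Finset.notMem_empty i)⟩
  | insert a s _ ih =>
    obtain ⟨E', hle, hfg, hh⟩ := ih
    obtain ⟨F, hF, hFfg, hFa⟩ := TensorProduct.Algebra.eq_of_fg_of_subtype_eq hE (t := v a) (t' := w a) (h a)
    refine ⟨E' ⊔ F, hle.trans le_sup_left, hfg.sup hFfg, fun i hi => ?_⟩
    rcases Finset.mem_insert.1 hi with rfl | hi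
    · have h1 : tr hF (v i) = tr hF (w i) := hFa
      have := congrArg (tr (N := N) (le_sup_right : F ≤ E' ⊔ F)) h1
      rw [tr_tr, tr_tr] at this
      exact this
    · have := congrArg (tr (N := N) (le_sup_left : E' ≤ E' ⊔ F)) (hh i hi)
      rw [tr_tr, tr_tr] at this
      exact this

/-- Homomorphisms out of finitely presented algebras descend. -/
theorem exists_hom {P : Type u} [CommRing P] [Algebra R P] [Algebra.FinitePresentation R P]
    (f : P →ₐ[R] L ⊗[R] N) :
    ∃ (E : Subalgebra R L), E.FG ∧ ∃ f' : P →ₐ[R] E ⊗[R] N, (top E).comp f' = f := by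
  classical
  obtain ⟨n, π, hπ, hker⟩ := (inferInstance : Algebra.FinitePresentation R P).out
  obtain ⟨s, hs⟩ := hker
  obtain ⟨E, hE, hv⟩ := exists_preimages fun i : Fin n => f (π (MvPolynomial.X i))
  choose w hw using hv
  let g : MvPolynomial (Fin n) R →ₐ[R] E ⊗[R] N := MvPolynomial.aeval w
  have hg : (top E).comp g = f.comp π := MvPolynomial.algHom_ext fun i => by
    show top E (g (MvPolynomial.X i)) = _
    rw [MvPolynomial.aeval_X]; exact hw i
  obtain ⟨E', hle, hE', hz⟩ := exists_eq hE (fun r : s => g r.1) (fun _ => 0) fun r => by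
    have hr : π r.1 = 0 := RingHom.mem_ker.1 (hs ▸ Ideal.subset_span r.2 : r.1 ∈ RingHom.ker π)
    rw [map_zero, ← AlgHom.comp_apply, hg, AlgHom.comp_apply, hr, map_zero]
  let g' : MvPolynomial (Fin n) R →ₐ[R] E' ⊗[R] N := (tr hle).comp g
  have hg' : ∀ a ∈ RingHom.ker π, g' a = 0 := by
    intro a ha
    have hle' : RingHom.ker π ≤ RingHom.ker g' := by
      show RingHom.ker π.toRingHom ≤ _
      rw [← hs]
      refine Ideal.span_le.2 fun r hr => ?_
      show g' r = 0
      simpa using! hz ⟨r, hr⟩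
    exact hle' ha
  let f' : P →ₐ[R] E' ⊗[R] N := (Ideal.Quotient.liftₐ (RingHom.ker π) g' hg').comp
    (Ideal.quotientKerAlgEquivOfSurjective hπ).symm.toAlgHom
  have hf' : ∀ a, f' (π a) = g' a := fun a => by
    show Ideal.Quotient.liftₐ _ g' hg' ((Ideal.quotientKerAlgEquivOfSurjective hπ).symm (π a)) = _
    rw [show (Ideal.quotientKerAlgEquivOfSurjective hπ).symm (π a) = Ideal.Quotient.mk _ a from
      (AlgEquiv.symm_apply_eq _).2 rfl]
    rfl
  refine ⟨E', hE', f', AlgHom.ext fun p => ?_⟩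
  obtain ⟨a, rfl⟩ := hπ p
  show top E' (f' (π a)) = _
  rw [hf']
  show top E' (tr hle (g a)) = _
  rw [top_tr, ← AlgHom.comp_apply, hg]
  rfl

/-- The linear extension of a map `P → E ⊗ N`, over any `E' ≥ E`. -/
noncomputable def ext {P : Type u} [CommRing P] [Algebra R P] {E E' : Subalgebra R L} (h : E ≤ E')
    (f : P →ₐ[R] E ⊗[R] N) : E' ⊗[R] P →ₐ[E'] E' ⊗[R] N :=
  Algebra.TensorProduct.lift (Algebra.ofId E' _) ((tr h).comp f) fun _ _ => Commute.all _ _

theorem ext_one_tmul {P : Type u} [CommRing P] [Algebra R P] {E E' : Subalgebra R L} (h : E ≤ E')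
    (f : P →ₐ[R] E ⊗[R] N) (p : P) : ext h f (1 ⊗ₜ p) = tr h (f p) := by
  rw [ext, Algebra.TensorProduct.lift_tmul, map_one, one_mul]
  rfl

theorem tr_ext {P : Type u} [CommRing P] [Algebra R P] {E E' E'' : Subalgebra R L} (h : E ≤ E') (h' : E' ≤ E'')
    (f : P →ₐ[R] E ⊗[R] N) (x : E' ⊗[R] P) : ext (h.trans h') f (tr h' x) = tr h' (ext h f x) := by
  induction x using TensorProduct.induction_on with
  | zero => simp
  | tmul a p =>
    have e1 : a ⊗ₜ[R] p = algebraMap E' (E' ⊗[R] P) a * (1 ⊗ₜ p) := by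
      simp [Algebra.TensorProduct.algebraMap_apply]
    have e2 : ∀ {Q : Type u} [CommRing Q] [Algebra R Q], tr h' (algebraMap E' (E' ⊗[R] Q) a) =
        algebraMap E'' (E'' ⊗[R] Q) (Subalgebra.inclusion h' a) := fun {Q} _ _ => by
      simp [tr, Algebra.TensorProduct.algebraMap_apply]
    have e3 : tr h' ((1 : E') ⊗ₜ[R] p) = (1 : E'') ⊗ₜ[R] p := by simp [tr]
    rw [e1, map_mul, map_mul, map_mul, map_mul, AlgHom.commutes, e2, e2, AlgHom.commutes, e3,
      ext_one_tmul, ext_one_tmul, tr_tr]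
  | add x y hx hy => rw [map_add, map_add, map_add, map_add, hx, hy]

theorem top_ext {P : Type u} [CommRing P] [Algebra R P] {E E' : Subalgebra R L} (h : E ≤ E')
    (f : P →ₐ[R] E ⊗[R] N) (F : L ⊗[R] P →ₐ[L] L ⊗[R] N) (hF : ∀ p, F (1 ⊗ₜ p) = top E (f p))
    (x : E' ⊗[R] P) : top E' (ext h f x) = F (top E' x) := by
  induction x using TensorProduct.induction_on with
  | zero => simp
  | tmul a p =>
    have e1 : a ⊗ₜ[R] p = algebraMap E' (E' ⊗[R] P) a * (1 ⊗ₜ p) := by
      simp [Algebra.TensorProduct.algebraMap_apply]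
    have e2 : ∀ {Q : Type u} [CommRing Q] [Algebra R Q], top E' (algebraMap E' (E' ⊗[R] Q) a) =
        algebraMap L (L ⊗[R] Q) (a : L) := fun {Q} _ _ => by
      simp [top, Algebra.TensorProduct.algebraMap_apply]
    have e3 : top E' ((1 : E') ⊗ₜ[R] p) = (1 : L) ⊗ₜ[R] p := by simp [top]
    rw [e1, map_mul, map_mul, map_mul, map_mul, AlgHom.commutes, e2, e2, AlgHom.commutes, e3,
      ext_one_tmul, top_tr, hF]
  | add x y hx hy => rw [map_add, map_add, map_add, map_add, hx, hy]

/-- Isomorphisms between finitely presented algebras descend. -/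
theorem exists_iso {P Q : Type u} [CommRing P] [CommRing Q] [Algebra R P] [Algebra R Q]
    [Algebra.FinitePresentation R P] [Algebra.FinitePresentation R Q] (e : L ⊗[R] P ≃ₐ[L] L ⊗[R] Q) :
    ∃ (E : Subalgebra R L), E.FG ∧ ∃ e' : E ⊗[R] P ≃ₐ[E] E ⊗[R] Q, ∀ x, top E (e' x) = e (top E x) := by
  classical
  obtain ⟨E1, hE1, f, hf⟩ := exists_hom ((e.toAlgHom.restrictScalars R).comp Algebra.TensorProduct.includeRight)
  obtain ⟨E2, hE2, g, hg⟩ := exists_hom ((e.symm.toAlgHom.restrictScalars R).comp Algebra.TensorProduct.includeRight)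
  let E := E1 ⊔ E2
  have hf' : ∀ p, e.toAlgHom (1 ⊗ₜ p) = top E1 (f p) := fun p => (DFunLike.congr_fun hf p).symm
  have hg' : ∀ q, e.symm.toAlgHom (1 ⊗ₜ q) = top E2 (g q) := fun q => (DFunLike.congr_fun hg q).symm
  obtain ⟨nP, πP, hπP, -⟩ := (inferInstance : Algebra.FinitePresentation R P).out
  obtain ⟨nQ, πQ, hπQ, -⟩ := (inferInstance : Algebra.FinitePresentation R Q).out
  let F := ext (le_sup_left : E1 ≤ E) f
  let G := ext (le_sup_right : E2 ≤ E) g
  have hE : E.FG := hE1.sup hE2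
  obtain ⟨E', hle', hE', hP⟩ := exists_eq hE (fun i : Fin nP => G (F (1 ⊗ₜ πP (MvPolynomial.X i))))
    (fun i => 1 ⊗ₜ πP (MvPolynomial.X i)) fun i => by
      rw [top_ext _ g _ hg', top_ext _ f _ hf']
      exact e.symm_apply_apply _
  obtain ⟨E'', hle'', hE'', hQ⟩ := exists_eq hE' (fun i : Fin nQ => tr hle' (F (G (1 ⊗ₜ πQ (MvPolynomial.X i)))))
    (fun i => tr hle' (1 ⊗ₜ πQ (MvPolynomial.X i))) fun i => by
      rw [top_tr, top_tr, top_ext _ f _ hf', top_ext _ g _ hg']
      exact e.apply_symm_apply _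
  have h1 : E1 ≤ E'' := le_sup_left.trans (hle'.trans hle'')
  have h2 : E2 ≤ E'' := le_sup_right.trans (hle'.trans hle'')
  let F' := ext h1 f
  let G' := ext h2 g
  have hnF : ∀ x : E ⊗[R] P, F' (tr (hle'.trans hle'') x) = tr (hle'.trans hle'') (F x) := fun x =>
    tr_ext (le_sup_left : E1 ≤ E) (hle'.trans hle'') f x
  have hnG : ∀ x : E ⊗[R] Q, G' (tr (hle'.trans hle'') x) = tr (hle'.trans hle'') (G x) := fun x =>
    tr_ext (le_sup_right : E2 ≤ E) (hle'.trans hle'') g x
  have hPeq : G'.comp F' = AlgHom.id E'' _ := by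
    refine Algebra.TensorProduct.ext (Subsingleton.elim _ _) ?_
    have : ∀ i, G' (F' (1 ⊗ₜ πP (MvPolynomial.X i))) = 1 ⊗ₜ πP (MvPolynomial.X i) := fun i => by
      have := congrArg (tr hle'') (hP i)
      rw [tr_tr, tr_tr] at this
      rw [← hnG, ← hnF] at this
      simpa [tr] using this
    refine (AlgHom.cancel_right hπP).1 (MvPolynomial.algHom_ext fun i => ?_)
    exact this i
  have hQeq : F'.comp G' = AlgHom.id E'' _ := by
    refine Algebra.TensorProduct.ext (Subsingleton.elim _ _) ?_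
    have : ∀ i, F' (G' (1 ⊗ₜ πQ (MvPolynomial.X i))) = 1 ⊗ₜ πQ (MvPolynomial.X i) := fun i => by
      have := hQ i
      rw [tr_tr, tr_tr] at this
      rw [← hnF, ← hnG] at this
      simpa [tr] using this
    refine (AlgHom.cancel_right hπQ).1 (MvPolynomial.algHom_ext fun i => ?_)
    exact this i
  exact ⟨E'', hE'', AlgEquiv.ofAlgHom F' G' hQeq hPeq, fun x => top_ext h1 f e.toAlgHom hf' x⟩

/-- Base change of an étale map. -/
theorem etale_map {R' P W : Type u} [CommRing R'] [Algebra R R'] [CommRing P] [Algebra R P] [CommRing W]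
    [Algebra R W] (f : P →ₐ[R] W) (hf : f.toRingHom.Etale) :
    (Algebra.TensorProduct.map (AlgHom.id R R') f).toRingHom.Etale := by
  algebraize [f.toRingHom, (Algebra.TensorProduct.map (AlgHom.id R R') f).toRingHom]
  haveI : IsScalarTower R P W := IsScalarTower.of_algebraMap_eq fun r => (f.commutes r).symm
  letI : Algebra P (R' ⊗[R] P) := Algebra.TensorProduct.rightAlgebra
  letI : Algebra P (R' ⊗[R] W) := ((Algebra.TensorProduct.includeRight : W →ₐ[R] R' ⊗[R] W).toRingHom.comp (algebraMap P W)).toAlgebra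
  haveI : IsScalarTower P (R' ⊗[R] P) (R' ⊗[R] W) := IsScalarTower.of_algebraMap_eq fun p => by
    show (1 : R') ⊗ₜ[R] f p = Algebra.TensorProduct.map (AlgHom.id R R') f (1 ⊗ₜ[R] p)
    simp
  let e : (R' ⊗[R] P) ⊗[P] W →ₐ[R' ⊗[R] P] R' ⊗[R] W :=
    Algebra.TensorProduct.lift (Algebra.ofId _ _)
      { (Algebra.TensorProduct.includeRight : W →ₐ[R] R' ⊗[R] W).toRingHom with commutes' := fun _ => rfl }
      fun _ _ => Commute.all _ _
  let d : R' ⊗[R] W →ₐ[R] (R' ⊗[R] P) ⊗[P] W :=
    Algebra.TensorProduct.lift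
      ((Algebra.TensorProduct.includeLeft : (R' ⊗[R] P) →ₐ[R] (R' ⊗[R] P) ⊗[P] W).comp Algebra.TensorProduct.includeLeft)
      ((Algebra.TensorProduct.includeRight : W →ₐ[P] (R' ⊗[R] P) ⊗[P] W).restrictScalars R)
      fun _ _ => Commute.all _ _
  have hbij : Function.Bijective e := by
    refine ⟨Function.LeftInverse.injective (g := d) fun z => ?_, fun z => ⟨d z, ?_⟩⟩
    · induction z using TensorProduct.induction_on with
      | zero => simp
      | add x y hx hy => rw [map_add, map_add, hx, hy]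
      | tmul a w =>
        induction a using TensorProduct.induction_on with
        | zero => simp
        | add x y hx hy => rw [TensorProduct.add_tmul, map_add, map_add, hx, hy]
        | tmul r p =>
          show d (algebraMap (R' ⊗[R] P) (R' ⊗[R] W) (r ⊗ₜ[R] p) * ((1 : R') ⊗ₜ[R] w)) = _
          rw [show algebraMap (R' ⊗[R] P) (R' ⊗[R] W) (r ⊗ₜ[R] p) = r ⊗ₜ[R] f p from
            Algebra.TensorProduct.map_tmul _ _ _ _, Algebra.TensorProduct.tmul_mul_tmul, mul_one,
            Algebra.TensorProduct.lift_tmul]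
          show ((r ⊗ₜ[R] (1 : P)) ⊗ₜ[P] (1 : W)) * ((1 : R' ⊗[R] P) ⊗ₜ[P] (f p * w)) = _
          rw [Algebra.TensorProduct.tmul_mul_tmul, one_mul, mul_one,
            show f p * w = p • w from (Algebra.smul_def p w).symm, TensorProduct.tmul_smul,
            TensorProduct.smul_tmul']
          congr 1
          show algebraMap P (R' ⊗[R] P) p * (r ⊗ₜ[R] 1) = _
          rw [show algebraMap P (R' ⊗[R] P) p = (1 : R') ⊗ₜ[R] p from rfl,
            Algebra.TensorProduct.tmul_mul_tmul, one_mul, mul_one]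
    · induction z using TensorProduct.induction_on with
      | zero => simp
      | add x y hx hy => rw [map_add, map_add, hx, hy]
      | tmul r w =>
        rw [Algebra.TensorProduct.lift_tmul]
        show e (((r ⊗ₜ[R] (1 : P)) ⊗ₜ[P] (1 : W)) * ((1 : R' ⊗[R] P) ⊗ₜ[P] w)) = _
        rw [Algebra.TensorProduct.tmul_mul_tmul, one_mul, mul_one]
        show algebraMap (R' ⊗[R] P) (R' ⊗[R] W) (r ⊗ₜ[R] (1 : P)) * ((1 : R') ⊗ₜ[R] w) = _
        rw [show algebraMap (R' ⊗[R] P) (R' ⊗[R] W) (r ⊗ₜ[R] (1 : P)) = r ⊗ₜ[R] f 1 from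
          Algebra.TensorProduct.map_tmul _ _ _ _, map_one, Algebra.TensorProduct.tmul_mul_tmul, mul_one, one_mul]
  haveI : Algebra.Etale P W := ‹_›
  exact RingHom.etale_algebraMap.2 (Algebra.Etale.of_equiv (AlgEquiv.ofBijective e hbij))

/-- An algebra generated by `E ⊗ B` and a model `M` becomes the target over `L`. -/
theorem model_bijective {B W W' M : Type u} [CommRing B] [Algebra R B] [CommRing W] [Algebra L W]
    (g : L ⊗[R] B →ₐ[L] W) {E : Subalgebra R L} [CommRing W'] [Algebra E W']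
    (h : E ⊗[R] B →ₐ[E] W') (π : W' →ₐ[E] W) (hπ : ∀ x, π (h x) = g (top E x))
    {S : Subalgebra R (L ⊗[R] B)} [CommRing M] [Algebra S M] (i : M →+* W')
    (hi : ∀ z : S, ∃ x, top E x = (z : L ⊗[R] B) ∧ i (algebraMap S M z) = h x)
    (hgen : ∀ w : W', w ∈ AddSubmonoid.closure (Set.range fun p : (E ⊗[R] B) × M => h p.1 * i p.2))
    (Φ : (L ⊗[R] B) ⊗[S] M →+* W) (hΦ : Function.Bijective Φ) (hΦ1 : ∀ m, π (i m) = Φ (1 ⊗ₜ m))
    (hΦ2 : ∀ a, Φ (a ⊗ₜ 1) = g a) :
    Function.Bijective (Algebra.TensorProduct.lift (Algebra.ofId L W) π fun _ _ => Commute.all _ _) := by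
  set πh : L ⊗[E] W' →ₐ[L] W := Algebra.TensorProduct.lift (Algebra.ofId L W) π fun _ _ => Commute.all _ _
  have hπh : ∀ l w, πh (l ⊗ₜ[E] w) = algebraMap L W l * π w := fun l w =>
    Algebra.TensorProduct.lift_tmul _ _ _ _ _
  let kB : B →ₐ[R] L ⊗[E] W' :=
    { (Algebra.TensorProduct.includeRight : W' →ₐ[E] L ⊗[E] W').toRingHom.comp (h.toRingHom.comp
        (Algebra.TensorProduct.includeRight : B →ₐ[R] E ⊗[R] B).toRingHom) with
      commutes' := fun r => by
        show (1 : L) ⊗ₜ[E] h ((1 : E) ⊗ₜ[R] algebraMap R B r) = _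
        rw [show (1 : E) ⊗ₜ[R] algebraMap R B r = algebraMap E (E ⊗[R] B) (algebraMap R E r) from
          ((Algebra.TensorProduct.includeRight : B →ₐ[R] E ⊗[R] B).commutes r).trans
            (IsScalarTower.algebraMap_apply R E _ r),
          AlgHom.commutes]
        exact ((Algebra.TensorProduct.includeRight : W' →ₐ[E] L ⊗[E] W').commutes _).trans rfl }
  let j : L ⊗[R] B →ₐ[L] L ⊗[E] W' := Algebra.TensorProduct.lift (Algebra.ofId L _) kB fun _ _ => Commute.all _ _
  have hj : ∀ l b, j (l ⊗ₜ[R] b) = l ⊗ₜ[E] h ((1 : E) ⊗ₜ[R] b) := fun l b => by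
    rw [Algebra.TensorProduct.lift_tmul]
    show l ⊗ₜ[E] (1 : W') * ((1 : L) ⊗ₜ[E] _) = _
    rw [Algebra.TensorProduct.tmul_mul_tmul, mul_one, one_mul]
    rfl
  have hjtop : ∀ x, j (top E x) = (1 : L) ⊗ₜ[E] h x := by
    intro x
    induction x using TensorProduct.induction_on with
    | zero => simp
    | add x y hx hy => rw [map_add, map_add, map_add, TensorProduct.tmul_add, hx, hy]
    | tmul a b =>
      rw [show top E (a ⊗ₜ[R] b) = (a : L) ⊗ₜ[R] b from Algebra.TensorProduct.map_tmul _ _ _ _, hj,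
        show a ⊗ₜ[R] b = a • ((1 : E) ⊗ₜ[R] b) by rw [TensorProduct.smul_tmul', smul_eq_mul, mul_one],
        map_smul, TensorProduct.tmul_smul, TensorProduct.smul_tmul']
      congr 1
      exact (mul_one (a : L)).symm
  have hπj : ∀ a, πh (j a) = g a := by
    intro a
    induction a using TensorProduct.induction_on with
    | zero => simp
    | add x y hx hy => rw [map_add, map_add, map_add, hx, hy]
    | tmul l b =>
      rw [hj, hπh, hπ, show top E ((1 : E) ⊗ₜ[R] b) = (1 : L) ⊗ₜ[R] b from Algebra.TensorProduct.map_tmul _ _ _ _,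
        ← AlgHom.commutes g, ← map_mul, Algebra.TensorProduct.algebraMap_apply,
        Algebra.TensorProduct.tmul_mul_tmul, mul_one, one_mul]
      rfl
  letI : Algebra (L ⊗[R] B) (L ⊗[E] W') := j.toRingHom.toAlgebra
  haveI : IsScalarTower S (L ⊗[R] B) (L ⊗[E] W') := IsScalarTower.of_algebraMap_eq fun _ => rfl
  let kM : M →ₐ[S] L ⊗[E] W' :=
    { (Algebra.TensorProduct.includeRight : W' →ₐ[E] L ⊗[E] W').toRingHom.comp i with
      commutes' := fun z => by
        obtain ⟨x, hx, hxi⟩ := hi z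
        show (1 : L) ⊗ₜ[E] i (algebraMap S M z) = j (z : L ⊗[R] B)
        rw [hxi, ← hx, hjtop] }
  let J : (L ⊗[R] B) ⊗[S] M →ₐ[L ⊗[R] B] L ⊗[E] W' :=
    Algebra.TensorProduct.lift (Algebra.ofId _ _) kM fun _ _ => Commute.all _ _
  have hJ : ∀ a w, J (a ⊗ₜ[S] w) = j a * (1 : L) ⊗ₜ[E] i w := fun a w =>
    Algebra.TensorProduct.lift_tmul _ _ _ _ _
  have hcomp : ∀ z, πh (J z) = Φ z := by
    intro z
    induction z using TensorProduct.induction_on with
    | zero => simp
    | add x y hx hy => rw [map_add, map_add, map_add, hx, hy]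
    | tmul a w =>
      rw [hJ, map_mul, hπh, map_one, one_mul, hπj, hΦ1, ← hΦ2, ← map_mul,
        Algebra.TensorProduct.tmul_mul_tmul, mul_one, one_mul]
  have hJs : Function.Surjective J := by
    intro z
    induction z using TensorProduct.induction_on with
    | zero => exact ⟨0, map_zero _⟩
    | add x y hx hy =>
      obtain ⟨a, rfl⟩ := hx; obtain ⟨b, rfl⟩ := hy
      exact ⟨a + b, map_add _ _ _⟩
    | tmul l w =>
      induction hgen w using AddSubmonoid.closure_induction with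
      | zero => exact ⟨0, by rw [map_zero, TensorProduct.tmul_zero]⟩
      | add x y _ _ hx hy =>
        obtain ⟨a, ha⟩ := hx; obtain ⟨b, hb⟩ := hy
        exact ⟨a + b, by rw [map_add, ha, hb, TensorProduct.tmul_add]⟩
      | mem x hx =>
        obtain ⟨⟨x, m⟩, rfl⟩ := hx
        refine ⟨(algebraMap L (L ⊗[R] B) l * top E x) ⊗ₜ[S] m, ?_⟩
        rw [hJ, map_mul, hjtop, AlgHom.commutes, Algebra.TensorProduct.algebraMap_apply,
          Algebra.TensorProduct.tmul_mul_tmul, Algebra.TensorProduct.tmul_mul_tmul, one_mul, mul_one, mul_one]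
        rfl
  refine ⟨fun x y hxy => ?_, fun w => ?_⟩
  · obtain ⟨a, rfl⟩ := hJs x
    obtain ⟨b, rfl⟩ := hJs y
    rw [hcomp, hcomp] at hxy
    rw [hΦ.1 hxy]
  · obtain ⟨a, ha⟩ := hΦ.2 w
    exact ⟨J a, (hcomp a).trans ha⟩

/-- The pushout of an étale algebra, with opaque carrier. -/
theorem exists_pushout {S Q M : Type u} [CommRing S] [CommRing Q] [CommRing M] [Algebra S Q] [Algebra S M]
    [Algebra.Etale S M] :
    ∃ (W' : Type u) (_ : CommRing W') (q : Q →+* W') (i : M →+* W'), q.Etale ∧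
      (∀ z, i (algebraMap S M z) = q (algebraMap S Q z)) ∧
      (∀ w : W', w ∈ AddSubmonoid.closure (Set.range fun p : Q × M => q p.1 * i p.2)) ∧
      ∀ (T : Type u) [CommRing T] (a : Q →+* T) (b : M →+* T),
        (∀ z, b (algebraMap S M z) = a (algebraMap S Q z)) →
        ∃ c : W' →+* T, (∀ x, c (q x) = a x) ∧ ∀ m, c (i m) = b m := by
  refine ⟨Q ⊗[S] M, inferInstance, algebraMap Q (Q ⊗[S] M),
    (Algebra.TensorProduct.includeRight : M →ₐ[S] Q ⊗[S] M).toRingHom,
    RingHom.etale_algebraMap.2 inferInstance, fun z => ?_, fun w => ?_, fun T _ a b hab => ?_⟩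
  · exact ((Algebra.TensorProduct.includeRight : M →ₐ[S] Q ⊗[S] M).commutes z).trans rfl
  · induction w using TensorProduct.induction_on with
    | zero => exact zero_mem _
    | add x y hx hy => exact add_mem hx hy
    | tmul x m =>
      refine AddSubmonoid.subset_closure ⟨(x, m), ?_⟩
      show x ⊗ₜ[S] (1 : M) * ((1 : Q) ⊗ₜ[S] m) = _
      rw [Algebra.TensorProduct.tmul_mul_tmul, mul_one, one_mul]
  · letI : Algebra Q T := a.toAlgebra
    letI : Algebra S T := (a.comp (algebraMap S Q)).toAlgebra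
    haveI : IsScalarTower S Q T := IsScalarTower.of_algebraMap_eq fun _ => rfl
    let b' : M →ₐ[S] T := { b with commutes' := hab }
    let c : Q ⊗[S] M →ₐ[Q] T := Algebra.TensorProduct.lift (Algebra.ofId _ _) b' fun _ _ => Commute.all _ _
    refine ⟨c.toRingHom, fun x => c.commutes x, fun m => ?_⟩
    show c ((1 : Q) ⊗ₜ[S] m) = _
    rw [Algebra.TensorProduct.lift_tmul, map_one, one_mul]
    rfl

/-- Étale algebras descend. -/
theorem exists_etale_model [IsNoetherianRing R] {B W : Type u} [CommRing B] [Algebra R B]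
    [Algebra.FiniteType R B] [CommRing W] [Algebra L W] (g : L ⊗[R] B →ₐ[L] W) (hg : g.toRingHom.Etale) :
    ∃ (E : Subalgebra R L), E.FG ∧ ∃ (W' : Type u) (_ : CommRing W') (_ : Algebra E W')
      (h : E ⊗[R] B →ₐ[E] W'), h.toRingHom.Etale ∧ ∃ π : W' →ₐ[E] W,
        (∀ x, π (h x) = g (top E x)) ∧
        Function.Bijective (Algebra.TensorProduct.lift (Algebra.ofId L W) π fun _ _ => Commute.all _ _) := by
  classical
  algebraize [g.toRingHom]
  obtain ⟨ι, σ, hσ, hι, P, hdim⟩ := (Algebra.Etale.iff_isStandardSmoothOfRelativeDimension_zero.1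
    (inferInstance : Algebra.Etale (L ⊗[R] B) W)).out
  haveI : Algebra.Etale (L ⊗[R] B) W := ‹_›
  haveI := P.finite_coeffs.to_subtype
  obtain ⟨E1, hE1, hv⟩ := exists_preimages fun c : P.coeffs => c.1
  haveI : Algebra.FiniteType R E1 := (Subalgebra.fg_iff_finiteType E1).1 hE1
  haveI : IsNoetherianRing E1 := Algebra.FiniteType.isNoetherianRing R E1
  haveI : IsNoetherianRing (E1 ⊗[R] B) := Algebra.FiniteType.isNoetherianRing E1 (E1 ⊗[R] B)
  let S : Subalgebra R (L ⊗[R] B) := (top (N := B) E1).range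
  haveI : IsScalarTower S (L ⊗[R] B) W := IsScalarTower.of_algebraMap_eq fun _ => rfl
  haveI : P.HasCoeffs S := ⟨fun c hc => ⟨⟨c, hv ⟨c, hc⟩⟩, rfl⟩⟩
  let P0 := P.ofHasCoeffs S
  obtain ⟨K, hK⟩ := IsNoetherian.noetherian (RingHom.ker (top (N := B) E1).toRingHom)
  obtain ⟨E, hle, hE, hz⟩ := exists_eq hE1 (fun k : K => k.1) (fun _ => 0) fun k => by
    rw [map_zero]
    exact RingHom.mem_ker.1 (hK ▸ Submodule.subset_span k.2 : k.1 ∈ RingHom.ker (top (N := B) E1).toRingHom)
  have hKle : RingHom.ker (top (N := B) E1).toRingHom ≤ RingHom.ker (tr (N := B) hle).toRingHom := by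
    rw [← hK]
    refine Ideal.span_le.2 fun k hk => ?_
    show tr hle k = 0
    simpa using! hz ⟨k, hk⟩
  -- the map from the image into `E ⊗ B`
  let q0 : (E1 ⊗[R] B) →+* S := (top (N := B) E1).rangeRestrict.toRingHom
  have hq0 : Function.Surjective q0 := (top (N := B) E1).rangeRestrict_surjective
  let ρ : S →+* E ⊗[R] B := RingHom.liftOfSurjective q0 hq0 ⟨(tr (N := B) hle).toRingHom, fun x hx => hKle (by
    rw [RingHom.mem_ker] at hx ⊢
    exact congrArg Subtype.val hx)⟩
  have hρ : ∀ x, ρ (q0 x) = tr hle x := fun x => RingHom.liftOfRightInverse_comp_apply _ _ _ _ x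
  letI : Algebra S (E ⊗[R] B) := ρ.toAlgebra
  have hS : ∀ z : S, top E (algebraMap S (E ⊗[R] B) z) = (z : L ⊗[R] B) := fun z => by
    obtain ⟨x, rfl⟩ := hq0 z
    show top E (ρ (q0 x)) = _
    rw [hρ, top_tr]; rfl
  let M := P.toPresentation.ModelOfHasCoeffs S
  haveI : Finite ι := hι
  haveI : Finite σ := hσ
  haveI : Algebra.Etale S M := by
    rw [Algebra.Etale.iff_isStandardSmoothOfRelativeDimension_zero]
    exact ⟨ι, σ, inferInstance, inferInstance, P0, hdim⟩
  obtain ⟨W', _, q, i, hq, hqi, hgen, hlift⟩ := exists_pushout (S := S) (Q := E ⊗[R] B) (M := M)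
  letI : Algebra E W' := (q.comp (algebraMap E (E ⊗[R] B))).toAlgebra
  let h : E ⊗[R] B →ₐ[E] W' := { q with commutes' := fun _ => rfl }
  let Φ : (L ⊗[R] B) ⊗[S] M →+* W := (P.toPresentation.tensorModelOfHasCoeffsEquiv S).toAlgHom.toRingHom
  have hΦ : ∀ a, Φ (a ⊗ₜ[S] (1 : M)) = g a := fun a =>
    (P.toPresentation.tensorModelOfHasCoeffsEquiv S).commutes a
  obtain ⟨c, hcq, hci⟩ := hlift W (g.toRingHom.comp (top (N := B) E).toRingHom)
    (Φ.comp (Algebra.TensorProduct.includeRight (R := S) (A := L ⊗[R] B) (B := M)).toRingHom) fun z => by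
      show Φ ((1 : L ⊗[R] B) ⊗ₜ[S] algebraMap S M z) = g (top E (algebraMap S (E ⊗[R] B) z))
      rw [hS, ← hΦ]
      congr 1
      exact ((Algebra.TensorProduct.includeRight (R := S) (A := L ⊗[R] B) (B := M)).commutes z).trans rfl
  let π : W' →ₐ[E] W := { c with
    commutes' := fun a => by
      show c (q (algebraMap E (E ⊗[R] B) a)) = _
      rw [hcq]
      show g (top E (a ⊗ₜ[R] (1 : B))) = _
      rw [show top E (a ⊗ₜ[R] (1 : B)) = algebraMap L (L ⊗[R] B) (a : L) by
        simp [top, Algebra.TensorProduct.algebraMap_apply], AlgHom.commutes]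
      rfl }
  exact ⟨E, hE, W', inferInstance, inferInstance, h, hq, π, hcq,
    model_bijective (M := M) (S := S) g h π hcq i (fun z => ⟨algebraMap S _ z, hS z, hqi z⟩) hgen Φ
      (P.toPresentation.tensorModelOfHasCoeffsEquiv S).bijective hci hΦ⟩

end Groth.Agent.EtNhd31.Desc
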