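import Groth.Agent.EtNhd31.Desc

/-!
Descent of a scheme with two étale structures.
-/

set_option autoImplicit false
set_option linter.style.haveILetI false
universe u

open TensorProduct

namespace Groth.Agent.EtNhd31.Desc

variable {R L : Type u} [CommRing R] [CommRing L] [Algebra R L]

section bc

variable {E E' B W' : Type u} [CommRing E] [CommRing E'] [CommRing B] [CommRing W'] [Algebra R E] [Algebra R E']
  [Algebra E E'] [IsScalarTower R E E'] [Algebra R B] [Algebra E W']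

/-- The map `E' ⊗ B → E' ⊗ W'` induced by `E ⊗ B → W'`. -/
noncomputable def bcHom (h : E ⊗[R] B →ₐ[E] W') : E' ⊗[R] B →ₐ[E'] E' ⊗[E] W' :=
  ((Algebra.TensorProduct.map (AlgHom.id E' E') h).comp
    (Algebra.TensorProduct.cancelBaseChange R E E' E' B).symm.toAlgHom)

theorem bcHom_tmul (h : E ⊗[R] B →ₐ[E] W') (a : E') (b : B) :
    bcHom h (a ⊗ₜ[R] b) = a ⊗ₜ[E] h (1 ⊗ₜ[R] b) := by
  simp [bcHom]

theorem bcHom_etale (h : E ⊗[R] B →ₐ[E] W') (hh : h.toRingHom.Etale) :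
    (bcHom (E' := E') h).toRingHom.Etale := by
  have h1 : ((Algebra.TensorProduct.map (AlgHom.id E E') h) : E' ⊗[E] (E ⊗[R] B) →ₐ[E] E' ⊗[E] W').toRingHom.Etale :=
    etale_map h hh
  exact RingHom.Etale.respectsIso.2 _ (Algebra.TensorProduct.cancelBaseChange R E E' E' B).symm.toRingEquiv h1

variable [Algebra E L] [Algebra E' L] [IsScalarTower E E' L] {W : Type u} [CommRing W] [Algebra L W]
  [Algebra E W] [IsScalarTower E L W] [Algebra E' W] [IsScalarTower E E' W] [IsScalarTower E' L W]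

theorem bc_bijective (π : W' →ₐ[E] W)
    (hπ : Function.Bijective (Algebra.TensorProduct.lift (Algebra.ofId L W) π fun _ _ => Commute.all _ _)) :
    Function.Bijective (Algebra.TensorProduct.lift (Algebra.ofId L W)
      (Algebra.TensorProduct.lift (Algebra.ofId E' W) π fun _ _ => Commute.all _ _) fun _ _ => Commute.all _ _) := by
  have : (Algebra.TensorProduct.lift (Algebra.ofId L W)
      (Algebra.TensorProduct.lift (Algebra.ofId E' W) π fun _ _ => Commute.all _ _) fun _ _ => Commute.all _ _) =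
    (Algebra.TensorProduct.lift (Algebra.ofId L W) π fun _ _ => Commute.all _ _).comp
      (Algebra.TensorProduct.cancelBaseChange E E' L L W').toAlgHom := by
    refine Algebra.TensorProduct.ext (Subsingleton.elim _ _) (AlgHom.ext fun x => ?_)
    induction x using TensorProduct.induction_on with
    | zero => simp
    | add x y hx hy => simp only [map_add, hx, hy]
    | tmul a w =>
      simp [Algebra.TensorProduct.lift_tmul, ← IsScalarTower.algebraMap_apply, Algebra.smul_def]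
  rw [this]
  exact hπ.comp (AlgEquiv.bijective _)

end bc

/-- An algebra étale over two base changes descends with both structures. -/
theorem exists_double_model [IsNoetherianRing R] {B C W : Type u} [CommRing B] [Algebra R B]
    [Algebra.FiniteType R B] [CommRing C] [Algebra R C] [Algebra.FiniteType R C] [CommRing W] [Algebra L W]
    (g : L ⊗[R] B →ₐ[L] W) (hg : g.toRingHom.Etale) (g' : L ⊗[R] C →ₐ[L] W) (hg' : g'.toRingHom.Etale) :
    ∃ (E : Type u) (_ : CommRing E) (_ : Algebra R E), Algebra.FiniteType R E ∧ ∃ (ε : E →ₐ[R] L)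
      (W' : Type u) (_ : CommRing W') (_ : Algebra E W') (h : E ⊗[R] B →ₐ[E] W') (h' : E ⊗[R] C →ₐ[E] W')
      (π : W' →+* W), h.toRingHom.Etale ∧ h'.toRingHom.Etale ∧
        (∀ e, π (algebraMap E W' e) = algebraMap L W (ε e)) ∧
        (∀ b, π (h (1 ⊗ₜ[R] b)) = g (1 ⊗ₜ[R] b)) ∧ ∀ c, π (h' (1 ⊗ₜ[R] c)) = g' (1 ⊗ₜ[R] c) := by
  classical
  obtain ⟨E1, hE1, W1, _, _, h1, hh1, π1, hπ1, hb1⟩ := exists_etale_model g hg
  obtain ⟨E2, hE2, W2, _, _, h2, hh2, π2, hπ2, hb2⟩ := exists_etale_model g' hg'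
  let E3 : Subalgebra R L := E1 ⊔ E2
  letI : Algebra E1 E3 := (Subalgebra.inclusion (le_sup_left : E1 ≤ E3)).toRingHom.toAlgebra
  letI : Algebra E2 E3 := (Subalgebra.inclusion (le_sup_right : E2 ≤ E3)).toRingHom.toAlgebra
  haveI : IsScalarTower R E1 E3 := IsScalarTower.of_algebraMap_eq fun _ => rfl
  haveI : IsScalarTower R E2 E3 := IsScalarTower.of_algebraMap_eq fun _ => rfl
  haveI : IsScalarTower E1 E3 L := IsScalarTower.of_algebraMap_eq fun _ => rfl
  haveI : IsScalarTower E2 E3 L := IsScalarTower.of_algebraMap_eq fun _ => rfl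
  haveI : IsScalarTower E1 E3 W := IsScalarTower.of_algebraMap_eq fun _ => rfl
  haveI : IsScalarTower E2 E3 W := IsScalarTower.of_algebraMap_eq fun _ => rfl
  haveI : Algebra.FiniteType R E3 := (Subalgebra.fg_iff_finiteType E3).1 (hE1.sup hE2)
  haveI : IsNoetherianRing E3 := Algebra.FiniteType.isNoetherianRing R E3
  let P := E3 ⊗[E1] W1
  let Q := E3 ⊗[E2] W2
  let j1 : E3 ⊗[R] B →ₐ[E3] P := bcHom h1
  let j2 : E3 ⊗[R] C →ₐ[E3] Q := bcHom h2
  have hj1 : j1.toRingHom.Etale := bcHom_etale h1 hh1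
  have hj2 : j2.toRingHom.Etale := bcHom_etale h2 hh2
  let p1 : P →ₐ[E3] W := Algebra.TensorProduct.lift (Algebra.ofId E3 W) π1 fun _ _ => Commute.all _ _
  let p2 : Q →ₐ[E3] W := Algebra.TensorProduct.lift (Algebra.ofId E3 W) π2 fun _ _ => Commute.all _ _
  let Φ1 : L ⊗[E3] P ≃ₐ[L] W := AlgEquiv.ofBijective _ (bc_bijective (E' := E3) π1 hb1)
  let Φ2 : L ⊗[E3] Q ≃ₐ[L] W := AlgEquiv.ofBijective _ (bc_bijective (E' := E3) π2 hb2)
  have hfp : ∀ {D M : Type u} [CommRing D] [Algebra R D] [CommRing M] [Algebra E3 M] [Algebra.FiniteType R D]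
      (j : E3 ⊗[R] D →ₐ[E3] M), j.toRingHom.Etale → Algebra.FinitePresentation E3 M := by
    intro D M _ _ _ _ _ j hj
    haveI : Algebra.FinitePresentation E3 (E3 ⊗[R] D) := Algebra.FinitePresentation.of_finiteType.mp inferInstance
    have h0 : j.toRingHom.FinitePresentation := by
      algebraize [j.toRingHom]
      exact Algebra.Etale.finitePresentation
    have h3 := h0.comp (RingHom.finitePresentation_algebraMap.2 ‹Algebra.FinitePresentation E3 (E3 ⊗[R] D)›)
    rw [show j.toRingHom.comp (algebraMap E3 (E3 ⊗[R] D)) = algebraMap E3 M from RingHom.ext j.commutes] at h3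
    exact RingHom.finitePresentation_algebraMap.1 h3
  haveI : Algebra.FinitePresentation E3 P := hfp j1 hj1
  haveI : Algebra.FinitePresentation E3 Q := hfp j2 hj2
  obtain ⟨E4, hE4, e, he⟩ := exists_iso (Φ1.trans Φ2.symm)
  haveI : Algebra.FiniteType E3 E4 := (Subalgebra.fg_iff_finiteType E4).1 hE4
  have hfin : Algebra.FiniteType R E4 := Algebra.FiniteType.trans ‹Algebra.FiniteType R E3› ‹Algebra.FiniteType E3 E4›
  let h : E4 ⊗[R] B →ₐ[E4] E4 ⊗[E3] Q := e.toAlgHom.comp (bcHom j1)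
  let h' : E4 ⊗[R] C →ₐ[E4] E4 ⊗[E3] Q := bcHom j2
  let π : E4 ⊗[E3] Q →+* W := Φ2.toAlgHom.toRingHom.comp (top (N := Q) E4).toRingHom
  have hΦ : ∀ l q, Φ2 (l ⊗ₜ[E3] q) = algebraMap L W l * p2 q := fun l q => Algebra.TensorProduct.lift_tmul (Algebra.ofId L W) p2 (fun _ _ => Commute.all _ _) l q
  have hΦ' : ∀ l q, Φ1 (l ⊗ₜ[E3] q) = algebraMap L W l * p1 q := fun l q => Algebra.TensorProduct.lift_tmul (Algebra.ofId L W) p1 (fun _ _ => Commute.all _ _) l q
  refine ⟨E4, inferInstance, inferInstance, hfin, E4.val.restrictScalars R, E4 ⊗[E3] Q, inferInstance,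
    inferInstance, h, h', π, ?_, bcHom_etale j2 hj2, fun a => ?_, fun b => ?_, fun c => ?_⟩
  · exact RingHom.Etale.respectsIso.1 (R := E4 ⊗[R] B) (S := E4 ⊗[E3] P) (T := E4 ⊗[E3] Q) _ e.toRingEquiv (bcHom_etale j1 hj1)
  · show Φ2 (top E4 (a ⊗ₜ[E3] (1 : Q))) = _
    rw [show top E4 (a ⊗ₜ[E3] (1 : Q)) = (a : L) ⊗ₜ[E3] (1 : Q) from Algebra.TensorProduct.map_tmul _ _ _ _,
      hΦ, map_one, mul_one]
    rfl
  · show Φ2 (top E4 (e (bcHom j1 ((1 : E4) ⊗ₜ[R] b)))) = _
    rw [he, bcHom_tmul]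
    show Φ2 (Φ2.symm (Φ1 _)) = _
    rw [AlgEquiv.apply_symm_apply]
    show Φ1 ((1 : L) ⊗ₜ[E3] bcHom h1 ((1 : E3) ⊗ₜ[R] b)) = _
    rw [hΦ', bcHom_tmul, map_one, one_mul, Algebra.TensorProduct.lift_tmul, map_one, one_mul, hπ1]
    rfl
  · show Φ2 (top E4 (bcHom j2 ((1 : E4) ⊗ₜ[R] c))) = _
    rw [bcHom_tmul]
    show Φ2 ((1 : L) ⊗ₜ[E3] bcHom h2 ((1 : E3) ⊗ₜ[R] c)) = _
    rw [hΦ, bcHom_tmul, map_one, one_mul, Algebra.TensorProduct.lift_tmul, map_one, one_mul, hπ2]
    rfl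

end Groth.Agent.EtNhd31.Desc
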