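import Groth.Agent.EtNhd31.Desc2

/-!
Descent with two different bases, and base change of the result.
-/

set_option autoImplicit false
set_option linter.style.haveILetI false
universe u

open TensorProduct

namespace Groth.Agent.EtNhd31.Desc

theorem exists_model_two_bases (A R L B C W : Type u) [CommRing A] [IsNoetherianRing A] [CommRing R]
    [Algebra.FiniteType ℤ R] [CommRing L] [Algebra A L] [Algebra R L] [CommRing B] [Algebra A B]
    [Algebra.FiniteType A B] [CommRing C] [Algebra R C] [Algebra.FiniteType R C] [CommRing W] [Algebra L W]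
    (gB : L ⊗[A] B →ₐ[L] W) (hgB : gB.toRingHom.Etale) (gC : L ⊗[R] C →ₐ[L] W) (hgC : gC.toRingHom.Etale) :
    ∃ (E : Type u) (_ : CommRing E) (_ : Algebra A E) (_ : Algebra R E), Algebra.FiniteType A E ∧
      ∃ (ε : E →+* L), (∀ a, ε (algebraMap A E a) = algebraMap A L a) ∧
        (∀ r, ε (algebraMap R E r) = algebraMap R L r) ∧
      ∃ (W' : Type u) (_ : CommRing W') (_ : Algebra E W') (hB : E ⊗[A] B →ₐ[E] W') (hC : E ⊗[R] C →ₐ[E] W')
        (π : W' →+* W), hB.toRingHom.Etale ∧ hC.toRingHom.Etale ∧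
        (∀ e, π (algebraMap E W' e) = algebraMap L W (ε e)) ∧
        (∀ b, π (hB (1 ⊗ₜ[A] b)) = gB (1 ⊗ₜ[A] b)) ∧ ∀ c, π (hC (1 ⊗ₜ[R] c)) = gC (1 ⊗ₜ[R] c) := by
  classical
  let R0 := A ⊗[ℤ] R
  letI : Algebra R R0 := (Algebra.TensorProduct.includeRight : R →ₐ[ℤ] A ⊗[ℤ] R).toRingHom.toAlgebra
  haveI : Algebra.FiniteType A R0 := inferInstanceAs (Algebra.FiniteType A (A ⊗[ℤ] R))
  haveI : IsNoetherianRing R0 := Algebra.FiniteType.isNoetherianRing A R0
  let ρ : R0 →+* L := (Algebra.TensorProduct.lift (IsScalarTower.toAlgHom ℤ A L) (IsScalarTower.toAlgHom ℤ R L)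
    fun _ _ => Commute.all _ _).toRingHom
  letI : Algebra R0 L := ρ.toAlgebra
  haveI : IsScalarTower A R0 L := IsScalarTower.of_algebraMap_eq fun a => by
    show _ = ρ (a ⊗ₜ[ℤ] (1 : R))
    refine Eq.trans ?_ (Algebra.TensorProduct.lift_tmul (R := ℤ) (S := ℤ) _ _ _ _ _).symm
    simp
  haveI : IsScalarTower R R0 L := IsScalarTower.of_algebraMap_eq fun r => by
    show _ = ρ ((1 : A) ⊗ₜ[ℤ] r)
    refine Eq.trans ?_ (Algebra.TensorProduct.lift_tmul (R := ℤ) (S := ℤ) _ _ _ _ _).symm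
    simp
  let cB := Algebra.TensorProduct.cancelBaseChange A R0 L L B
  let cC := Algebra.TensorProduct.cancelBaseChange R R0 L L C
  obtain ⟨E, _, _, hE, ε, W', _, _, h, h', π, hh, hh', hπ, hπB, hπC⟩ :=
    exists_double_model (R := R0) (L := L) (B := R0 ⊗[A] B) (C := R0 ⊗[R] C)
      (gB.comp cB.toAlgHom) (RingHom.Etale.respectsIso.2 _ cB.toRingEquiv hgB)
      (gC.comp cC.toAlgHom) (RingHom.Etale.respectsIso.2 _ cC.toRingEquiv hgC)
  letI : Algebra A E := ((algebraMap R0 E).comp (algebraMap A R0)).toAlgebra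
  letI : Algebra R E := ((algebraMap R0 E).comp (algebraMap R R0)).toAlgebra
  haveI : IsScalarTower A R0 E := ⟨fun a r e => by
    rw [show a • r = algebraMap A R0 a * r from Algebra.smul_def a r, Algebra.smul_def, Algebra.smul_def,
      Algebra.smul_def, map_mul, mul_assoc]
    rfl⟩
  haveI : IsScalarTower R R0 E := IsScalarTower.of_algebraMap_eq fun _ => rfl
  let dB := Algebra.TensorProduct.cancelBaseChange A R0 E E B
  let dC := Algebra.TensorProduct.cancelBaseChange R R0 E E C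
  refine ⟨E, inferInstance, inferInstance, inferInstance, Algebra.FiniteType.trans ‹Algebra.FiniteType A R0› hE,
    ε.toRingHom, fun a => (ε.commutes _).trans (IsScalarTower.algebraMap_apply A R0 L a).symm,
    fun r => (ε.commutes _).trans (IsScalarTower.algebraMap_apply R R0 L r).symm, W', inferInstance, inferInstance,
    h.comp dB.symm.toAlgHom, h'.comp dC.symm.toAlgHom, π,
    RingHom.Etale.respectsIso.2 _ dB.symm.toRingEquiv hh, RingHom.Etale.respectsIso.2 _ dC.symm.toRingEquiv hh',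
    hπ, fun b => ?_, fun c => ?_⟩
  · show π (h (dB.symm ((1 : E) ⊗ₜ[A] b))) = _
    rw [show dB.symm ((1 : E) ⊗ₜ[A] b) = (1 : E) ⊗ₜ[R0] ((1 : R0) ⊗ₜ[A] b) by simp [dB], hπB]
    simp only [AlgHom.comp_apply]
    congr 1
    refine (Algebra.TensorProduct.cancelBaseChange_tmul A R0 L L B (1 : L) (1 : R0) b).trans ?_
    congr 1
    exact one_smul R0 (1 : L)
  · show π (h' (dC.symm ((1 : E) ⊗ₜ[R] c))) = _
    rw [show dC.symm ((1 : E) ⊗ₜ[R] c) = (1 : E) ⊗ₜ[R0] ((1 : R0) ⊗ₜ[R] c) by simp [dC], hπC]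
    simp only [AlgHom.comp_apply]
    congr 1
    refine (Algebra.TensorProduct.cancelBaseChange_tmul R R0 L L C (1 : L) (1 : R0) c).trans ?_
    congr 1
    exact one_smul R0 (1 : L)

/-- The base change of the model along `θ : E → E'`. -/
theorem exists_bc_model {A R B C E E' W' : Type u} [CommRing A] [CommRing R] [CommRing B] [CommRing C]
    [CommRing E] [CommRing E'] [CommRing W'] [Algebra A B] [Algebra R C] [Algebra A E] [Algebra R E]
    [Algebra A E'] [Algebra R E'] [Algebra E W'] (θ : E →+* E')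
    (hθA : ∀ a, θ (algebraMap A E a) = algebraMap A E' a) (hθR : ∀ r, θ (algebraMap R E r) = algebraMap R E' r)
    (hB : E ⊗[A] B →ₐ[E] W') (hC : E ⊗[R] C →ₐ[E] W') (hhB : hB.toRingHom.Etale) (hhC : hC.toRingHom.Etale) :
    ∃ (WV : Type u) (_ : CommRing WV) (lam : E' →+* WV) (mW : W' →+* WV)
      (kB : E' ⊗[A] B →+* WV) (kC : E' ⊗[R] C →+* WV),
      kB.Etale ∧ kC.Etale ∧ (∀ e, mW (algebraMap E W' e) = lam (θ e)) ∧
      (∀ a b, kB (a ⊗ₜ[A] b) = lam a * mW (hB (1 ⊗ₜ[A] b))) ∧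
      (∀ a c, kC (a ⊗ₜ[R] c) = lam a * mW (hC (1 ⊗ₜ[R] c))) ∧
      (∀ w, w ∈ AddSubmonoid.closure (Set.range fun p : E' × W' => lam p.1 * mW p.2)) ∧
      ∀ (K : Type u) [CommRing K] (a : E' →+* K) (b : W' →+* K),
        (∀ e, b (algebraMap E W' e) = a (θ e)) → ∃ c : WV →+* K, (∀ x, c (lam x) = a x) ∧ ∀ w, c (mW w) = b w := by
  letI : Algebra E E' := θ.toAlgebra
  haveI : IsScalarTower A E E' := IsScalarTower.of_algebraMap_eq fun a => (hθA a).symm
  haveI : IsScalarTower R E E' := IsScalarTower.of_algebraMap_eq fun r => (hθR r).symm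
  refine ⟨E' ⊗[E] W', inferInstance, Algebra.TensorProduct.includeLeftRingHom,
    (Algebra.TensorProduct.includeRight : W' →ₐ[E] E' ⊗[E] W').toRingHom,
    (bcHom hB).toRingHom, (bcHom hC).toRingHom, bcHom_etale hB hhB, bcHom_etale hC hhC, fun e => ?_,
    fun a b => ?_, fun a c => ?_, fun w => ?_, fun K _ a b hab => ?_⟩
  · exact ((Algebra.TensorProduct.includeRight : W' →ₐ[E] E' ⊗[E] W').commutes e).trans rfl
  · show bcHom hB (a ⊗ₜ[A] b) = a ⊗ₜ[E] (1 : W') * ((1 : E') ⊗ₜ[E] _)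
    rw [bcHom_tmul, Algebra.TensorProduct.tmul_mul_tmul, mul_one, one_mul]
  · show bcHom hC (a ⊗ₜ[R] c) = a ⊗ₜ[E] (1 : W') * ((1 : E') ⊗ₜ[E] _)
    rw [bcHom_tmul, Algebra.TensorProduct.tmul_mul_tmul, mul_one, one_mul]
  · induction w using TensorProduct.induction_on with
    | zero => exact zero_mem _
    | add x y hx hy => exact add_mem hx hy
    | tmul a w =>
      refine AddSubmonoid.subset_closure ⟨(a, w), ?_⟩
      show a ⊗ₜ[E] (1 : W') * ((1 : E') ⊗ₜ[E] w) = _
      rw [Algebra.TensorProduct.tmul_mul_tmul, mul_one, one_mul]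
  · letI : Algebra E K := (a.comp θ).toAlgebra
    let a' : E' →ₐ[E] K := { a with commutes' := fun _ => rfl }
    let b' : W' →ₐ[E] K := { b with commutes' := hab }
    refine ⟨(Algebra.TensorProduct.lift a' b' fun _ _ => Commute.all _ _).toRingHom, fun x => ?_, fun w => ?_⟩
    · show Algebra.TensorProduct.lift a' b' _ (x ⊗ₜ[E] (1 : W')) = _
      rw [Algebra.TensorProduct.lift_tmul, map_one, mul_one]; rfl
    · show Algebra.TensorProduct.lift a' b' _ ((1 : E') ⊗ₜ[E] w) = _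
      rw [Algebra.TensorProduct.lift_tmul, map_one, one_mul]; rfl

end Groth.Agent.EtNhd31.Desc
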