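import Groth.Agent.EtNhd31.Basic
import Groth.Agent.EtNhd31.Core
import Groth.Agent.An92.FSch.Stalk
import Mathlib.AlgebraicGeometry.Pullbacks
import Mathlib.AlgebraicGeometry.Morphisms.Etale
import Mathlib.AlgebraicGeometry.Stalk

/-!
Affine charts of base changes, residue fields and completions.
-/

set_option autoImplicit false
set_option linter.style.haveILetI false
universe u

open CategoryTheory CategoryTheory.Limits AlgebraicGeometry IsLocalRing TensorProduct

namespace Groth.Agent.EtNhd31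

attribute [local instance] isPrime_spec

/-- Residue fields along the spectrum of a ring map. -/
theorem spec_residueFieldMap_bijective {Q R : CommRingCat.{u}} (ψ : Q ⟶ R) (u : Spec R)
    (h : ∀ z : R, ∃ r s : Q, ψ.hom s ∉ PrimeSpectrum.asIdeal u ∧
      ψ.hom s * z - ψ.hom r ∈ PrimeSpectrum.asIdeal u) :
    Function.Bijective ((Spec.map ψ).residueFieldMap u) := by
  refine residueFieldMap_bijective _ u fun w => ?_
  have hg : ∀ b : Q, ((Spec.map ψ).stalkMap u).hom (toStk Q ((Spec.map ψ) u) b) = toStk R u (ψ.hom b) := by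
    intro b
    have hle : (⊤ : (Spec R).Opens) ≤ (Spec.map ψ) ⁻¹ᵁ ⊤ := le_of_eq rfl
    refine (germ_stalkMap_appLE (Spec.map ψ) ⊤ hle u trivial trivial _).trans ?_
    show (Spec R).presheaf.germ ⊤ u trivial _ = (Spec R).presheaf.germ ⊤ u trivial _
    congr 1
    have := congr($(Scheme.ΓSpecIso_inv_naturality ψ) b)
    refine Eq.trans ?_ this.symm
    simp [Scheme.Hom.appLE, Scheme.Hom.appTop]
    try rfl
  obtain ⟨z, t, ht, hw⟩ := toStk_surj R u w
  obtain ⟨r, s, hs, hrs⟩ := h z
  obtain ⟨r', s', hs', hrs'⟩ := h t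
  have hu : ∀ b : R, b ∉ PrimeSpectrum.asIdeal u → IsUnit (toStk R u b) := fun b hb => by
    by_contra hc; exact hb ((toStk_mem_iff _ _ _).1 hc)
  have hr' : ψ.hom r' ∉ PrimeSpectrum.asIdeal u := fun hm => by
    have := add_mem hrs' hm
    rw [sub_add_cancel] at this
    exact ((isPrime_spec u).mem_or_mem this).elim hs' ht
  have hq : ∀ b : Q, ψ.hom b ∉ PrimeSpectrum.asIdeal u → IsUnit (toStk Q ((Spec.map ψ) u) b) := fun b hb => by
    by_contra hc
    exact hb ((toStk_mem_iff Q ((Spec.map ψ) u) b).1 hc)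
  have hsr : ψ.hom (s * r') ∉ PrimeSpectrum.asIdeal u := fun hm => by
    rw [map_mul] at hm
    exact ((isPrime_spec u).mem_or_mem hm).elim hs hr'
  obtain ⟨i, hi⟩ := (hq _ hsr).exists_right_inv
  refine ⟨toStk Q _ (r * s') * i, ?_⟩
  refine (Ideal.mul_unit_mem_iff_mem _ ((hu _ hsr).mul (hu t ht))).1 ?_
  have e1 := congrArg ((Spec.map ψ).stalkMap u).hom hi
  rw [map_mul, map_one, hg] at e1
  have key : (w - ((Spec.map ψ).stalkMap u).hom (toStk Q _ (r * s') * i)) *
      (toStk R u (ψ.hom (s * r')) * toStk R u t) =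
      toStk R u ((ψ.hom s * z - ψ.hom r) * ψ.hom r' - ψ.hom r * (ψ.hom s' * t - ψ.hom r')) := by
    rw [map_mul, hg]
    simp only [map_mul, map_sub] at e1 ⊢
    linear_combination (toStk R u (ψ.hom s) * toStk R u (ψ.hom r')) * hw -
      (toStk R u t * toStk R u (ψ.hom r) * toStk R u (ψ.hom s')) * e1
  rw [key, toStk_mem_iff]
  exact sub_mem (Ideal.mul_mem_right _ _ hrs) (Ideal.mul_mem_left _ _ hrs')

/-- Trivial residue extensions are stable under composing with an open immersion. -/
theorem residueFieldMap_bijective_comp {X Y Z : Scheme.{u}} (f : X ⟶ Y) (g : Y ⟶ Z) [IsOpenImmersion g] (x : X)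
    (h : Function.Bijective (f.residueFieldMap x)) : Function.Bijective ((f ≫ g).residueFieldMap x) := by
  rw [Scheme.residueFieldMap_comp]
  exact h.comp (ConcreteCategory.bijective_of_isIso (g.residueFieldMap (f x)))

/-- The affine chart of a base change is an open immersion. -/
theorem exists_chart {Y T : Scheme.{u}} (q : Y ⟶ T) {WT : T.Opens} (hWT : IsAffineOpen WT) {VY : Y.Opens}
    (hVY : IsAffineOpen VY) (hle : VY ≤ q ⁻¹ᵁ WT) (E : CommRingCat.{u}) (ρ : Γ(T, WT) ⟶ E) :
    letI : Algebra Γ(T, WT) E := ρ.hom.toAlgebra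
    letI : Algebra Γ(T, WT) Γ(Y, VY) := (q.appLE WT VY hle).hom.toAlgebra
    ∃ j : Spec (CommRingCat.of (E ⊗[Γ(T, WT)] Γ(Y, VY))) ⟶ pullback q (Spec.map ρ ≫ hWT.fromSpec),
      IsOpenImmersion j ∧
      j ≫ pullback.fst _ _ = Spec.map (CommRingCat.ofHom
        (Algebra.TensorProduct.includeRight : Γ(Y, VY) →ₐ[Γ(T, WT)] E ⊗[Γ(T, WT)] Γ(Y, VY)).toRingHom) ≫ hVY.fromSpec ∧
      j ≫ pullback.snd _ _ = Spec.map (CommRingCat.ofHom Algebra.TensorProduct.includeLeftRingHom) ∧
      Set.range j = (pullback.fst q (Spec.map ρ ≫ hWT.fromSpec)) ⁻¹' (VY : Set Y) := by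
  letI : Algebra Γ(T, WT) E := ρ.hom.toAlgebra
  letI : Algebra Γ(T, WT) Γ(Y, VY) := (q.appLE WT VY hle).hom.toAlgebra
  let g := Spec.map ρ ≫ hWT.fromSpec
  let a : Spec Γ(Y, VY) ⟶ Spec Γ(T, WT) := Spec.map (CommRingCat.ofHom (algebraMap Γ(T, WT) Γ(Y, VY)))
  let b : Spec E ⟶ Spec Γ(T, WT) := Spec.map (CommRingCat.ofHom (algebraMap Γ(T, WT) E))
  have ha : a ≫ hWT.fromSpec = hVY.fromSpec ≫ q := hWT.SpecMap_appLE_fromSpec q hVY hle
  let i1 : Spec (CommRingCat.of (E ⊗[Γ(T, WT)] Γ(Y, VY))) ≅ pullback b a := (pullbackSpecIso Γ(T, WT) E Γ(Y, VY)).symm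
  have hb : b ≫ hWT.fromSpec = g := rfl
  let k : pullback b a ⟶ pullback (hVY.fromSpec ≫ q) g :=
    pullback.lift (pullback.snd _ _) (pullback.fst _ _) (by rw [← ha, ← hb, pullback.condition_assoc])
  have hk : IsIso k := by
    refine ⟨⟨pullback.lift (pullback.snd _ _) (pullback.fst _ _) (by
      rw [← cancel_mono hWT.fromSpec, Category.assoc, Category.assoc, hb, ha, pullback.condition]),
      pullback.hom_ext ?_ ?_, pullback.hom_ext ?_ ?_⟩⟩ <;>
      simp only [k, Category.assoc, Category.id_comp, pullback.lift_fst, pullback.lift_snd] <;>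
      (first | rfl | (erw [pullback.lift_fst]) | (erw [pullback.lift_snd]))
  let i2 := (pullbackRightPullbackFstIso q g hVY.fromSpec)
  let j := i1.hom ≫ k ≫ i2.inv ≫ pullback.snd hVY.fromSpec (pullback.fst q g)
  have h1 : j ≫ pullback.fst q g = Spec.map (CommRingCat.ofHom
        (Algebra.TensorProduct.includeRight : Γ(Y, VY) →ₐ[Γ(T, WT)] E ⊗[Γ(T, WT)] Γ(Y, VY)).toRingHom) ≫ hVY.fromSpec := by
    simp only [j, i2, Category.assoc, ← pullback.condition, pullbackRightPullbackFstIso_inv_fst_assoc]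
    simp only [k, pullback.lift_fst_assoc, i1, Iso.symm_hom]
    rw [← Category.assoc]
    congr 1
    exact pullbackSpecIso_inv_snd Γ(T, WT) E Γ(Y, VY)
  have h2 : j ≫ pullback.snd q g = Spec.map (CommRingCat.ofHom Algebra.TensorProduct.includeLeftRingHom) := by
    simp only [j, i2, Category.assoc, pullbackRightPullbackFstIso_inv_snd_snd, k, pullback.lift_snd, i1, Iso.symm_hom]
    exact pullbackSpecIso_inv_fst Γ(T, WT) E Γ(Y, VY)
  refine ⟨j, inferInstance, h1, h2, ?_⟩
  have hr : Set.range (pullback.snd hVY.fromSpec (pullback.fst q g)) = (pullback.fst q g) ⁻¹' (VY : Set Y) := by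
    rw [IsOpenImmersion.range_pullbackSnd, IsAffineOpen.opensRange_fromSpec]
    rfl
  rw [← hr]
  exact Set.Subset.antisymm (fun z ⟨w, hw⟩ => ⟨(i1.hom ≫ k ≫ i2.inv) w, hw⟩) (fun z ⟨w, hw⟩ => by
    obtain ⟨w', rfl⟩ := (i1.hom ≫ k ≫ i2.inv).homeomorph.surjective w
    exact ⟨w', hw⟩)

section Completion

variable {R R' : Type u} [CommRing R] [IsLocalRing R] [CommRing R'] [IsLocalRing R']

/-- A local map which is bijective modulo all powers induces an isomorphism of completions. -/
theorem exists_completion_equiv (f : R →+* R') (hf : (maximalIdeal R).map f ≤ maximalIdeal R')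
    (hs : ∀ n, Function.Surjective ((Ideal.Quotient.mk (maximalIdeal R' ^ n)).comp f))
    (hi : ∀ n r, f r ∈ maximalIdeal R' ^ n → r ∈ maximalIdeal R ^ n) :
    ∃ F : AdicCompletion (maximalIdeal R) R ≃+* AdicCompletion (maximalIdeal R') R',
      ∀ r, F (algebraMap R _ r) = algebraMap R' _ (f r) := by
  let m := maximalIdeal R
  let m' := maximalIdeal R'
  have hle : ∀ n, m ^ n ≤ (m' ^ n).comap f := fun n => Ideal.map_le_iff_le_comap.1
    ((Ideal.map_pow f m n).trans_le (Ideal.pow_right_mono hf n))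
  have hb : ∀ n, Function.Bijective (Ideal.quotientMap (m' ^ n) f (hle n)) := fun n =>
    ⟨Ideal.quotientMap_injective' fun r hr => hi n r hr, fun z => by
      obtain ⟨r, hr⟩ := hs n z; exact ⟨Ideal.Quotient.mk _ r, hr⟩⟩
  let q := fun n => RingEquiv.ofBijective _ (hb n)
  let g : ∀ n, AdicCompletion m' R' →+* R ⧸ m ^ n := fun n =>
    (q n).symm.toRingHom.comp (AdicCompletion.evalₐ m' n).toRingHom
  have hev : ∀ {S : Type u} [CommRing S] (I : Ideal S) {a b : ℕ} (hab : a ≤ b) (z : AdicCompletion I S),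
      Ideal.Quotient.factorPow I hab (AdicCompletion.evalₐ I b z) = AdicCompletion.evalₐ I a z := by
    intro S _ I a b hab z
    obtain ⟨s, rfl⟩ := AdicCompletion.mk_surjective I S z
    rw [AdicCompletion.evalₐ_mk, AdicCompletion.evalₐ_mk]
    exact (AdicCompletion.Ideal.mk_eq_mk I hab s)
  have hg : ∀ {a b : ℕ} (hab : a ≤ b), (Ideal.Quotient.factorPow m hab).comp (g b) = g a := by
    intro a b hab
    refine RingHom.ext fun z => (q a).injective ?_
    show q a (Ideal.Quotient.factorPow m hab ((q b).symm (AdicCompletion.evalₐ m' b z))) =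
      q a ((q a).symm (AdicCompletion.evalₐ m' a z))
    rw [RingEquiv.apply_symm_apply, ← hev m' hab]
    obtain ⟨r, hr⟩ := Ideal.Quotient.mk_surjective ((q b).symm (AdicCompletion.evalₐ m' b z))
    rw [← hr, show AdicCompletion.evalₐ m' b z = q b (Ideal.Quotient.mk _ r) by rw [hr, RingEquiv.apply_symm_apply]]
    rfl
  let G := AdicCompletion.liftRingHom m g hg
  let F := FSch.complMap m m' f hf
  refine ⟨RingEquiv.ofRingHom F G (RingHom.ext fun z => AdicCompletion.ext_evalₐ fun n => ?_)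
    (RingHom.ext fun z => AdicCompletion.ext_evalₐ fun n => ?_), fun r => An92.FSch.complMap_algebraMap hf r⟩
  · show AdicCompletion.evalₐ m' n (F (G z)) = AdicCompletion.evalₐ m' n z
    rw [An92.FSch.evalₐ_complMap, AdicCompletion.evalₐ_liftRingHom]
    exact (q n).apply_symm_apply _
  · show AdicCompletion.evalₐ m n (G (F z)) = AdicCompletion.evalₐ m n z
    rw [AdicCompletion.evalₐ_liftRingHom]
    show (q n).symm (AdicCompletion.evalₐ m' n (F z)) = _
    rw [An92.FSch.evalₐ_complMap]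
    exact (q n).symm_apply_apply _

/-- Two maps from a completion to a completion agreeing on the ring are equal. -/
theorem completion_hom_ext [IsNoetherianRing R] [IsNoetherianRing R']
    (a b : AdicCompletion (maximalIdeal R) R →+* AdicCompletion (maximalIdeal R') R')
    (h : ∀ r, a (algebraMap R _ r) = b (algebraMap R _ r))
    (hm : ∀ r ∈ maximalIdeal R, a (algebraMap R _ r) ∈
      (maximalIdeal R').map (algebraMap R' (AdicCompletion (maximalIdeal R') R'))) : a = b := by
  refine RingHom.ext fun z => AdicCompletion.ext_evalₐ fun n => ?_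
  obtain ⟨r, hr⟩ := Ideal.Quotient.mk_surjective (AdicCompletion.evalₐ (maximalIdeal R) n z)
  have hz : z - algebraMap R _ r ∈ (maximalIdeal R ^ n).map (algebraMap R (AdicCompletion (maximalIdeal R) R)) := by
    rw [← evalₐ_eq_zero_iff_mem_map, map_sub, AlgHom.commutes, ← hr]
    exact sub_self _
  have hk : ∀ c : AdicCompletion (maximalIdeal R) R →+* AdicCompletion (maximalIdeal R') R',
      (∀ r ∈ maximalIdeal R, c (algebraMap R _ r) ∈
        (maximalIdeal R').map (algebraMap R' (AdicCompletion (maximalIdeal R') R'))) →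
      AdicCompletion.evalₐ (maximalIdeal R') n (c z) =
        AdicCompletion.evalₐ (maximalIdeal R') n (c (algebraMap R _ r)) := by
    intro c hc
    rw [← sub_eq_zero, ← map_sub, ← map_sub, evalₐ_eq_zero_iff_mem_map, Ideal.map_pow]
    have h1 := Ideal.mem_map_of_mem c hz
    rw [Ideal.map_pow, Ideal.map_pow] at h1
    refine Ideal.pow_right_mono ?_ n h1
    rw [Ideal.map_map, Ideal.map_le_iff_le_comap]
    exact hc
  rw [hk a hm, hk b fun r hr => (h r) ▸ hm r hr, h]

end Completion

end Groth.Agent.EtNhd31
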