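import Groth.Agent.EtNhd31.Morphism

/-!
Isomorphic completions give common étale neighbourhoods.
-/

set_option autoImplicit false
set_option linter.style.haveILetI false
universe u

open CategoryTheory AlgebraicGeometry IsLocalRing

namespace Groth.Agent.EtNhd31

/-- A surjective endomorphism of a Noetherian ring is injective. -/
theorem injective_of_surjective {R : Type u} [CommRing R] [IsNoetherianRing R] (g : R →+* R)
    (hg : Function.Surjective g) : Function.Injective g := by
  let K : ℕ →o Ideal R := ⟨fun k => RingHom.ker (g ^ k), monotone_nat_of_le_succ fun k x hx => by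
    rw [RingHom.mem_ker] at hx ⊢
    rw [pow_succ']
    show g ((g ^ k) x) = 0
    rw [hx, map_zero]⟩
  obtain ⟨k, hk⟩ := monotone_stabilizes_iff_noetherian.2 (inferInstance : IsNoetherian R R) K
  refine (injective_iff_map_eq_zero g).2 fun x hx => ?_
  have hgk : Function.Surjective (g ^ k) := by
    rw [RingHom.coe_pow]; exact hg.iterate k
  obtain ⟨y, rfl⟩ := hgk x
  have h1 : y ∈ K (k + 1) := by
    show (g ^ (k + 1)) y = 0
    rw [pow_succ']
    exact hx
  rwa [← hk (k + 1) (Nat.le_succ k)] at h1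

section Ring

variable {R A L : Type u} [CommRing R] [CommRing A] [CommRing L] [IsLocalRing R] [IsLocalRing A] [IsLocalRing L]
  [IsNoetherianRing R] [IsNoetherianRing L]

theorem ker_eq_pow (fy : R →+* L)
    (hloc : (maximalIdeal R).map fy ≤ maximalIdeal L)
    (hsurj : ∀ n, Function.Surjective ((Ideal.Quotient.mk (maximalIdeal L ^ n)).comp fy))
    (ρ : ∀ n, (R ⧸ maximalIdeal R ^ n) ≃+* L ⧸ maximalIdeal L ^ n) (n : ℕ) :
    RingHom.ker ((Ideal.Quotient.mk (maximalIdeal L ^ n)).comp fy) = maximalIdeal R ^ n := by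
  have hle : maximalIdeal R ^ n ≤ RingHom.ker ((Ideal.Quotient.mk (maximalIdeal L ^ n)).comp fy) := by
    intro r hr
    rw [RingHom.mem_ker, RingHom.comp_apply, Ideal.Quotient.eq_zero_iff_mem]
    have := Ideal.mem_map_of_mem fy hr
    rw [Ideal.map_pow] at this
    exact Ideal.pow_right_mono hloc n this
  let g : (R ⧸ maximalIdeal R ^ n) →+* R ⧸ maximalIdeal R ^ n :=
    (ρ n).symm.toRingHom.comp (Ideal.Quotient.lift _ ((Ideal.Quotient.mk (maximalIdeal L ^ n)).comp fy)
      fun r hr => hle hr)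
  have hg : Function.Surjective g := fun z => by
    obtain ⟨r, hr⟩ := hsurj n (ρ n z)
    refine ⟨Ideal.Quotient.mk _ r, ?_⟩
    show (ρ n).symm (Ideal.Quotient.lift _ _ _ (Ideal.Quotient.mk _ r)) = z
    rw [Ideal.Quotient.lift_mk, hr, RingEquiv.symm_apply_apply]
  refine le_antisymm (fun r hr => ?_) hle
  refine Ideal.Quotient.eq_zero_iff_mem.1 (injective_of_surjective g hg (a₁ := Ideal.Quotient.mk _ r) (a₂ := 0) ?_)
  show (ρ n).symm (Ideal.Quotient.lift _ _ _ (Ideal.Quotient.mk _ r)) = g 0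
  rw [Ideal.Quotient.lift_mk, RingHom.mem_ker.1 hr, map_zero, map_zero]

theorem surjective_of_two (fy : R →+* L) [IsLocalHom fy]
    (h2 : Function.Surjective ((Ideal.Quotient.mk (maximalIdeal L ^ 2)).comp fy)) (n : ℕ) :
    Function.Surjective ((Ideal.Quotient.mk (maximalIdeal L ^ n)).comp fy) := by
  algebraize [fy]
  haveI : IsLocalHom (algebraMap R L) := by rw [RingHom.algebraMap_toAlgebra]; infer_instance
  have h' : ∀ b : L, ∃ a, b - algebraMap R L a ∈ maximalIdeal L ^ 2 := fun b => by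
    obtain ⟨a, ha⟩ := h2 (Ideal.Quotient.mk _ b)
    exact ⟨a, Ideal.Quotient.eq.mp ha.symm⟩
  have hm : (maximalIdeal R).map (algebraMap R L) = maximalIdeal L := by
    refine le_antisymm (((local_hom_TFAE (algebraMap R L)).out 0 2 rfl rfl).mp ‹_›) ?_
    refine Submodule.le_of_le_smul_of_le_jacobson_bot (I := maximalIdeal L)
      (IsNoetherian.noetherian _) (jacobson_eq_maximalIdeal ⊥ bot_ne_top).ge fun b hb ↦ ?_
    obtain ⟨a, ha⟩ := h' b
    have ha' : a ∈ maximalIdeal R := by
      by_contra hna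
      have hu := (notMem_maximalIdeal.mp hna).map (algebraMap R L)
      refine (maximalIdeal.isMaximal L).ne_top (Ideal.eq_top_of_isUnit_mem _ ?_ hu)
      have := sub_mem hb (Ideal.pow_le_self (two_ne_zero) ha)
      simpa using this
    rw [← sub_add_cancel b (algebraMap R L a)]
    refine Submodule.add_mem _ (Submodule.mem_sup_right ?_) (Submodule.mem_sup_left
      (Ideal.mem_map_of_mem _ ha'))
    rwa [smul_eq_mul, ← pow_two]
  exact Unr55.forall_surjective_iff.2 ⟨hm, fun b => (h' b).imp fun a ha => Ideal.pow_le_self two_ne_zero ha⟩ n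

/-- An isomorphism of completions gives isomorphisms modulo the powers of the maximal ideals. -/
theorem exists_quot_equiv [IsNoetherianRing A]
    (φ : AdicCompletion (maximalIdeal R) R ≃+* AdicCompletion (maximalIdeal A) A) (n : ℕ) :
    ∃ ρ : (R ⧸ maximalIdeal R ^ n) ≃+* A ⧸ maximalIdeal A ^ n,
      ∀ z, ρ (AdicCompletion.evalₐ (maximalIdeal R) n z) = AdicCompletion.evalₐ (maximalIdeal A) n (φ z) := by
  have hk : ∀ {S : Type u} [CommRing S] [IsLocalRing S] [IsNoetherianRing S],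
      RingHom.ker (AdicCompletion.evalₐ (maximalIdeal S) n).toRingHom =
        maximalIdeal (AdicCompletion (maximalIdeal S) S) ^ n := by
    intro S _ _ _
    ext z
    rw [RingHom.mem_ker, AdicCompletion.maximalIdeal_eq_map, ← Ideal.map_pow]
    exact evalₐ_eq_zero_iff_mem_map n z
  let ER : (AdicCompletion (maximalIdeal R) R) ⧸ RingHom.ker (AdicCompletion.evalₐ (maximalIdeal R) n).toRingHom ≃+*
      R ⧸ maximalIdeal R ^ n :=
    RingHom.quotientKerEquivOfSurjective (AdicCompletion.surjective_evalₐ (maximalIdeal R) n)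
  let EA : (AdicCompletion (maximalIdeal A) A) ⧸ RingHom.ker (AdicCompletion.evalₐ (maximalIdeal A) n).toRingHom ≃+*
      A ⧸ maximalIdeal A ^ n :=
    RingHom.quotientKerEquivOfSurjective (AdicCompletion.surjective_evalₐ (maximalIdeal A) n)
  have hmap : RingHom.ker (AdicCompletion.evalₐ (maximalIdeal A) n).toRingHom =
      (RingHom.ker (AdicCompletion.evalₐ (maximalIdeal R) n).toRingHom).map φ.toRingHom := by
    ext z
    obtain ⟨w, rfl⟩ := φ.surjective z
    refine Iff.trans ?_ (Ideal.mem_map_iff_of_surjective φ.toRingHom φ.surjective).symm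
    rw [hk, hk, mem_pow_iff φ n w]
    exact ⟨fun h => ⟨w, h, rfl⟩, fun ⟨w', h, hw⟩ => φ.injective hw ▸ h⟩
  refine ⟨ER.symm.trans ((Ideal.quotientEquiv _ _ φ hmap).trans EA), fun z => ?_⟩
  show EA (Ideal.quotientEquiv _ _ φ hmap (ER.symm (AdicCompletion.evalₐ (maximalIdeal R) n z))) = _
  rw [show ER.symm (AdicCompletion.evalₐ (maximalIdeal R) n z) = Ideal.Quotient.mk _ z from
    ER.injective (by rw [RingEquiv.apply_symm_apply]; rfl)]
  rfl

end Ring

theorem stalkMap_restrict {U Y : Scheme.{u}} (V : U.Opens) (f : U ⟶ Y) (v : (V : Scheme.{u})) (y : Y)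
    (h : f (V.ι v) = y) (h' : (V.ι ≫ f) v = y) (c : Y.presheaf.stalk y) :
    ((V.ι ≫ f).stalkMap v).hom ((Y.presheaf.stalkCongr (Inseparable.of_eq h')).inv.hom c) =
      (V.ι.stalkMap v).hom ((f.stalkMap (V.ι v)).hom ((Y.presheaf.stalkCongr (Inseparable.of_eq h)).inv.hom c)) := by
  subst h
  rw [Scheme.Hom.stalkMap_comp]
  rfl

variable {X Y S : Scheme.{u}}

theorem exists_common_nbhd [IsLocallyNoetherian S]
    (p : X ⟶ S) (q : Y ⟶ S) [LocallyOfFiniteType p] [LocallyOfFiniteType q] (x : X) (y : Y) (hxy : p x = q y)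
    (hG : CAlg.IsGRing ↑(S.presheaf.stalk (p x)))
    (φ : (AdicCompletion (maximalIdeal ↑(Y.presheaf.stalk y)) ↑(Y.presheaf.stalk y)) ≃+* (AdicCompletion (maximalIdeal ↑(X.presheaf.stalk x)) ↑(X.presheaf.stalk x)))
    (hφ : φ.toRingHom.comp ((algebraMap ↑(Y.presheaf.stalk y) (AdicCompletion (maximalIdeal ↑(Y.presheaf.stalk y)) ↑(Y.presheaf.stalk y))).comp
        ((q.stalkMap y).hom.comp (S.presheaf.stalkCongr (Inseparable.of_eq hxy)).hom.hom)) =
      (algebraMap ↑(X.presheaf.stalk x) (AdicCompletion (maximalIdeal ↑(X.presheaf.stalk x)) ↑(X.presheaf.stalk x))).comp (p.stalkMap x).hom)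
    (N : ℕ) (hN : 1 ≤ N) :
    ∃ (U : Scheme.{u}) (u : U) (e : U ⟶ X) (heu : e u = x) (f : U ⟶ Y) (hfu : f u = y),
      Etale e ∧ Function.Bijective (e.residueFieldMap u) ∧ Etale f ∧ Function.Bijective (f.residueFieldMap u) ∧
      f ≫ q = e ≫ p ∧
      ∀ (b : (AdicCompletion (maximalIdeal ↑(Y.presheaf.stalk y)) ↑(Y.presheaf.stalk y))) (cY : ↑(Y.presheaf.stalk y)) (cX : ↑(X.presheaf.stalk x)),
        AdicCompletion.evalₐ (maximalIdeal ↑(Y.presheaf.stalk y)) N b =
          Ideal.Quotient.mk (maximalIdeal ↑(Y.presheaf.stalk y) ^ N) cY →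
        AdicCompletion.evalₐ (maximalIdeal ↑(X.presheaf.stalk x)) N (φ b) =
          Ideal.Quotient.mk (maximalIdeal ↑(X.presheaf.stalk x) ^ N) cX →
        Ideal.Quotient.mk (maximalIdeal ↑(U.presheaf.stalk u) ^ N)
            ((f.stalkMap u).hom ((Y.presheaf.stalkCongr (Inseparable.of_eq hfu)).inv.hom cY)) =
          Ideal.Quotient.mk (maximalIdeal ↑(U.presheaf.stalk u) ^ N)
            ((e.stalkMap u).hom ((X.presheaf.stalkCongr (Inseparable.of_eq heu)).inv.hom cX)) := by
  haveI : IsLocallyNoetherian X := LocallyOfFiniteType.isLocallyNoetherian p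
  haveI : IsLocallyNoetherian Y := LocallyOfFiniteType.isLocallyNoetherian q
  let mx := maximalIdeal (X.presheaf.stalk x)
  let my := maximalIdeal (Y.presheaf.stalk y)
  let N' := max N 2
  obtain ⟨U, e, u, heu, f, hfu, he, hre, hsq, hcongr⟩ := exists_nbhd p q x y hxy hG
    (φ.toRingHom.comp (algebraMap _ _)) hφ (fun b hb => by
      have h1 : algebraMap _ (AdicCompletion my (Y.presheaf.stalk y)) b ∈ maximalIdeal _ := by
        rw [AdicCompletion.maximalIdeal_eq_map]; exact Ideal.mem_map_of_mem _ hb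
      have h2 := (mem_pow_iff φ 1 _).2 (by rwa [pow_one])
      rw [pow_one, AdicCompletion.maximalIdeal_eq_map] at h2
      exact h2) N' (le_trans hN (le_max_left _ _))
  haveI := he
  haveI : IsLocallyNoetherian U := LocallyOfFiniteType.isLocallyNoetherian e
  haveI : LocallyOfFiniteType (f ≫ q) := hsq ▸ inferInstance
  haveI : LocallyOfFiniteType f := locallyOfFiniteType_of_comp f q
  let O := U.presheaf.stalk u
  let ex : X.presheaf.stalk x →+* O :=
    (e.stalkMap u).hom.comp (X.presheaf.stalkCongr (Inseparable.of_eq heu)).inv.hom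
  let fy : Y.presheaf.stalk y →+* O :=
    (f.stalkMap u).hom.comp (Y.presheaf.stalkCongr (Inseparable.of_eq hfu)).inv.hom
  let cx := (X.presheaf.stalkCongr (Inseparable.of_eq heu)).commRingCatIsoToRingEquiv
  let cy := (Y.presheaf.stalkCongr (Inseparable.of_eq hfu)).commRingCatIsoToRingEquiv
  -- `e` induces isomorphisms modulo powers
  have hone : ∃ W : U.Opens, u ∈ W ∧ Etale (W.ι ≫ e) := ⟨⊤, trivial, inferInstance⟩
  have heq := (Unr55.etale_nhd_iff e u (Or.inl hre.2)).1 hone
  have hexs : ∀ n, Function.Surjective ((Ideal.Quotient.mk (maximalIdeal O ^ n)).comp ex) := fun n z => by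
    obtain ⟨w, hw⟩ := (heq n).1 z
    refine ⟨cx w, ?_⟩
    show Ideal.Quotient.mk _ ((e.stalkMap u).hom (cx.symm (cx w))) = z
    rw [RingEquiv.symm_apply_apply]
    exact hw
  have hexk : ∀ n, RingHom.ker ((Ideal.Quotient.mk (maximalIdeal O ^ n)).comp ex) = mx ^ n := fun n => by
    ext w
    rw [← mem_pow_iff cx.symm n w, ← (heq n).2]
    rfl
  let EX : ∀ n, (X.presheaf.stalk x ⧸ mx ^ n) ≃+* O ⧸ maximalIdeal O ^ n := fun n =>
    (Ideal.quotEquivOfEq (hexk n).symm).trans (RingHom.quotientKerEquivOfSurjective (hexs n))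
  choose ρ hρ using exists_quot_equiv φ
  have hmod : ∀ (b : AdicCompletion my (Y.presheaf.stalk y)) (cY : Y.presheaf.stalk y) (cX : X.presheaf.stalk x)
      (k : ℕ), k ≤ N' → AdicCompletion.evalₐ my k b = Ideal.Quotient.mk _ cY →
      AdicCompletion.evalₐ mx k (φ b) = Ideal.Quotient.mk _ cX →
      Ideal.Quotient.mk (maximalIdeal O ^ k) (fy cY) = Ideal.Quotient.mk (maximalIdeal O ^ k) (ex cX) := by
    intro b cY cX k hk hY hX
    obtain ⟨c', hc'⟩ := Ideal.Quotient.mk_surjective
      (AdicCompletion.evalₐ mx N' (φ (algebraMap _ _ cY)))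
    have h1 : Ideal.Quotient.mk (maximalIdeal O ^ N') (fy cY) = Ideal.Quotient.mk (maximalIdeal O ^ N') (ex c') :=
      hcongr cY c' hc'.symm
    have h2 : AdicCompletion.evalₐ mx k (φ (algebraMap _ _ cY)) = Ideal.Quotient.mk _ c' := by
      have h5 : AdicCompletion.evalₐ mx N' (φ (algebraMap _ _ cY) - algebraMap _ _ c') = 0 := by
        rw [map_sub, AlgHom.commutes, ← hc']
        exact sub_self _
      have h6 := (evalₐ_eq_zero_iff_mem_map k _).2
        (Ideal.map_mono (Ideal.pow_le_pow_right hk) ((evalₐ_eq_zero_iff_mem_map N' _).1 h5))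
      rw [map_sub, AlgHom.commutes, sub_eq_zero] at h6
      exact h6
    have h3 : Ideal.Quotient.mk (mx ^ k) c' = Ideal.Quotient.mk (mx ^ k) cX := by
      rw [← h2, ← hX, ← hρ, ← hρ, hY, AlgHom.commutes]
      rfl
    refine (congrArg (Ideal.Quotient.factor (Ideal.pow_le_pow_right hk)) h1).trans ?_
    show Ideal.Quotient.mk _ (ex c') = Ideal.Quotient.mk _ (ex cX)
    have h4 : ((Ideal.Quotient.mk (maximalIdeal O ^ k)).comp ex) (c' - cX) = 0 := by
      rw [← RingHom.mem_ker, hexk]; exact Ideal.Quotient.eq.1 h3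
    rw [map_sub, sub_eq_zero] at h4
    exact h4
  haveI : IsLocalHom fy := ⟨fun a ha => (isUnit_map_iff cy.symm a).1 ((isUnit_map_iff (f.stalkMap u).hom _).1 ha)⟩
  have hfs2 : Function.Surjective ((Ideal.Quotient.mk (maximalIdeal O ^ 2)).comp fy) := fun z => by
    obtain ⟨cX, rfl⟩ := hexs 2 z
    obtain ⟨cY, hcY⟩ := Ideal.Quotient.mk_surjective
      (AdicCompletion.evalₐ my 2 (φ.symm (algebraMap _ _ cX)))
    exact ⟨cY, hmod _ cY cX 2 (le_max_right _ _) hcY.symm (by
      rw [RingEquiv.apply_symm_apply, AlgHom.commutes]; rfl)⟩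
  have hfs := surjective_of_two fy hfs2
  have hloc : my.map fy ≤ maximalIdeal O :=
    (((local_hom_TFAE fy).out 0 2 rfl rfl).mp inferInstance)
  have hfk := ker_eq_pow fy hloc hfs (fun n => (ρ n).trans (EX n))
  have hrf : Function.Bijective (f.residueFieldMap u) := residueFieldMap_bijective f u fun w => by
    obtain ⟨r, hr⟩ := hfs 1 (Ideal.Quotient.mk _ w)
    refine ⟨cy.symm r, ?_⟩
    have h1 := Ideal.Quotient.eq.1 hr.symm
    rw [pow_one] at h1
    exact h1
  obtain ⟨V, huV, hV⟩ := (Unr55.etale_nhd_iff f u (Or.inl hrf.2)).2 fun n => by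
    refine ⟨fun z => ?_, ?_⟩
    · obtain ⟨r, hr⟩ := hfs n z
      exact ⟨cy.symm r, hr⟩
    · ext w
      rw [← mem_pow_iff cy n w, ← hfk n, RingHom.mem_ker, RingHom.mem_ker]
      show _ ↔ Ideal.Quotient.mk _ ((f.stalkMap u).hom (cy.symm (cy w))) = 0
      rw [RingEquiv.symm_apply_apply]
      rfl
  let v : (V : Scheme.{u}) := ⟨u, huV⟩
  have hv1 : (V.ι ≫ e) v = x := heu
  have hv2 : (V.ι ≫ f) v = y := hfu
  have hbij : ∀ {Z : Scheme.{u}} (g : U ⟶ Z), Function.Bijective (g.residueFieldMap u) →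
      Function.Bijective ((V.ι ≫ g).residueFieldMap v) := fun {Z} g hg => by
    rw [Scheme.residueFieldMap_comp]
    exact (ConcreteCategory.bijective_of_isIso (V.ι.residueFieldMap v)).comp hg
  refine ⟨V, v, V.ι ≫ e, hv1, V.ι ≫ f, hv2, inferInstance, hbij e hre, hV, hbij f hrf, by
    rw [Category.assoc, Category.assoc, hsq], fun b cY cX hY hX => ?_⟩
  rw [stalkMap_restrict V f v y hfu hv2, stalkMap_restrict V e v x heu hv1, Ideal.Quotient.eq, ← map_sub]
  have hd := Ideal.Quotient.eq.1 (hmod b cY cX N (le_max_left _ _) hY hX)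
  have hm : (maximalIdeal O).map (V.ι.stalkMap v).hom ≤ maximalIdeal _ :=
    (((local_hom_TFAE (V.ι.stalkMap v).hom).out 0 2 rfl rfl).mp inferInstance)
  have := Ideal.mem_map_of_mem (V.ι.stalkMap v).hom hd
  have h7 := (Ideal.map_pow (V.ι.stalkMap v).hom (maximalIdeal O) N).le this
  exact Ideal.pow_right_mono hm N h7

end Groth.Agent.EtNhd31
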