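import Groth.Agent.EtNhd31.Geo

/-!
The prime of `Ô_s ⊗ B` over a prime of `B` and its completed local ring.
-/

set_option autoImplicit false
set_option linter.style.haveILetI false
universe u

open IsLocalRing TensorProduct

namespace Groth.Agent.EtNhd31

variable {A Os B Ox : Type u} [CommRing A] [CommRing Os] [IsLocalRing Os] [IsNoetherianRing Os] [CommRing B]
  [CommRing Ox] [IsLocalRing Ox] [Algebra A Os] [Algebra A B] [Algebra B Ox]

theorem exists_completed_prime (q : Ideal A) [q.IsPrime] [IsLocalization.AtPrime Os q]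
    (P : Ideal B) [P.IsPrime] [IsLocalization.AtPrime Ox P] (fp : Os →+* Ox)
    (hfpA : ∀ a : A, fp (algebraMap A Os a) = algebraMap B Ox (algebraMap A B a))
    (hfp : (maximalIdeal Os).map fp ≤ maximalIdeal Ox) :
    ∃ xh : Ideal ((AdicCompletion (maximalIdeal Os) Os) ⊗[A] B), ∃ _ : xh.IsPrime,
      (∀ b : B, (1 : AdicCompletion (maximalIdeal Os) Os) ⊗ₜ[A] b ∈ xh ↔ b ∈ P) ∧
      (∀ l : AdicCompletion (maximalIdeal Os) Os, l ⊗ₜ[A] (1 : B) ∈ xh ↔
        l ∈ maximalIdeal (AdicCompletion (maximalIdeal Os) Os)) ∧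
      (∀ z, ∃ r s : B, (1 : AdicCompletion (maximalIdeal Os) Os) ⊗ₜ[A] s ∉ xh ∧
        (1 : AdicCompletion (maximalIdeal Os) Os) ⊗ₜ[A] s * z -
          (1 : AdicCompletion (maximalIdeal Os) Os) ⊗ₜ[A] r ∈ xh) ∧
      ∀ (O' : Type u) [CommRing O'] [IsLocalRing O'] (κ : (AdicCompletion (maximalIdeal Os) Os) ⊗[A] B →+* O'),
        (∀ z, κ z ∈ maximalIdeal O' ↔ z ∈ xh) → (∀ w, ∃ a t, t ∉ xh ∧ w * κ t = κ a) →
        (∀ (T : Type u) [CommRing T] (g : (AdicCompletion (maximalIdeal Os) Os) ⊗[A] B →+* T),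
          (∀ t, t ∉ xh → IsUnit (g t)) → ∃ g' : O' →+* T, ∀ z, g' (κ z) = g z) →
        ∃ F : AdicCompletion (maximalIdeal Ox) Ox ≃+* AdicCompletion (maximalIdeal O') O',
          ∀ b : B, F (algebraMap Ox _ (algebraMap B Ox b)) =
            algebraMap O' _ (κ ((1 : AdicCompletion (maximalIdeal Os) Os) ⊗ₜ[A] b)) := by
  classical
  let L := AdicCompletion (maximalIdeal Os) Os
  let ms := maximalIdeal Os
  let mx := maximalIdeal Ox
  have hcm : ∀ n, ms ^ n ≤ (mx ^ n).comap fp := fun n =>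
    Ideal.map_le_iff_le_comap.1 ((Ideal.map_pow fp ms n).trans_le (Ideal.pow_right_mono hfp n))
  let lam : ∀ n, L →+* Ox ⧸ mx ^ n := fun n =>
    (Ideal.quotientMap (mx ^ n) fp (hcm n)).comp (AdicCompletion.evalₐ ms n).toRingHom
  have hlam0 : ∀ n l, lam n l = Ideal.quotientMap (mx ^ n) fp (hcm n) (AdicCompletion.evalₐ ms n l) := fun _ _ => rfl
  have hlam : ∀ n o, lam n (algebraMap Os L o) = Ideal.Quotient.mk _ (fp o) := fun n o => by
    rw [hlam0]
    erw [AlgHom.commutes]
    rfl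
  let mu : ∀ n, L ⊗[A] B →+* Ox ⧸ mx ^ n := fun n =>
    letI : Algebra A (Ox ⧸ mx ^ n) := ((lam n).comp (algebraMap A L)).toAlgebra
    (Algebra.TensorProduct.lift ({ lam n with commutes' := fun _ => rfl } : L →ₐ[A] Ox ⧸ mx ^ n)
      ({ (Ideal.Quotient.mk (mx ^ n)).comp (algebraMap B Ox) with
        commutes' := fun a => by
          show Ideal.Quotient.mk _ (algebraMap B Ox (algebraMap A B a)) = lam n (algebraMap Os L (algebraMap A Os a))
          rw [hlam, hfpA] } : B →ₐ[A] Ox ⧸ mx ^ n) fun _ _ => Commute.all _ _).toRingHom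
  have hmu : ∀ n l b, mu n (l ⊗ₜ[A] b) = lam n l * Ideal.Quotient.mk _ (algebraMap B Ox b) := fun n l b =>
    letI : Algebra A (Ox ⧸ mx ^ n) := ((lam n).comp (algebraMap A L)).toAlgebra
    Algebra.TensorProduct.lift_tmul _ _ _ _ _
  have hmu1 : ∀ n b, mu n ((1 : L) ⊗ₜ[A] b) = Ideal.Quotient.mk _ (algebraMap B Ox b) := fun n b => by
    rw [hmu, map_one, one_mul]
  let c1 : Ox ⧸ mx ^ 1 →+* ResidueField Ox :=
    Ideal.Quotient.lift _ (IsLocalRing.residue Ox) fun z hz => (IsLocalRing.residue_eq_zero_iff _).2 (by rwa [pow_one] at hz)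
  have hc1 : ∀ z, c1 (Ideal.Quotient.mk _ z) = IsLocalRing.residue Ox z := fun z => rfl
  let xh : Ideal (L ⊗[A] B) := RingHom.ker (c1.comp (mu 1))
  haveI hxp : xh.IsPrime := RingHom.ker_isPrime _
  have hmem : ∀ z, z ∈ xh ↔ c1 (mu 1 z) = 0 := fun z => Iff.rfl
  have hb : ∀ b : B, (1 : L) ⊗ₜ[A] b ∈ xh ↔ b ∈ P := fun b => by
    rw [hmem, hmu1, hc1, IsLocalRing.residue_eq_zero_iff, IsLocalization.AtPrime.to_map_mem_maximal_iff Ox P]
  have hl : ∀ l : L, l ⊗ₜ[A] (1 : B) ∈ xh ↔ l ∈ maximalIdeal L := fun l => by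
    rw [hmem, hmu, map_one, map_one, mul_one]
    refine ⟨fun h => ?_, fun h => ?_⟩
    · by_contra hn
      exact (((notMem_maximalIdeal.1 hn).map (lam 1)).map c1).ne_zero h
    · rw [AdicCompletion.maximalIdeal_eq_map] at h
      refine (Ideal.map_le_iff_le_comap.2 fun o ho => ?_ : ms.map (algebraMap Os L) ≤ RingHom.ker (c1.comp (lam 1))) h
      rw [Ideal.mem_comap, RingHom.mem_ker, RingHom.comp_apply, hlam, hc1, IsLocalRing.residue_eq_zero_iff]
      exact hfp (Ideal.mem_map_of_mem _ ho)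
  have hfrac : ∀ z : L ⊗[A] B, ∃ r s : B, (1 : L) ⊗ₜ[A] s ∉ xh ∧
      (1 : L) ⊗ₜ[A] s * z - (1 : L) ⊗ₜ[A] r ∈ xh := by
    intro z
    obtain ⟨w, hw⟩ := Ideal.Quotient.mk_surjective (mu 1 z)
    obtain ⟨⟨r, s⟩, hrs⟩ := IsLocalization.surj P.primeCompl w
    refine ⟨r, s, fun h => s.2 ((hb _).1 h), ?_⟩
    rw [hmem, map_sub, map_mul, hmu1, hmu1, ← hw, ← map_mul, ← hrs, mul_comm, sub_self, map_zero]
  have hkey : ∀ n, 1 ≤ n → ∀ z w, Ideal.Quotient.mk (mx ^ n) w = mu n z → (z ∈ xh ↔ w ∈ mx) := by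
    intro n hn z w hw
    have h1 : (Ideal.Quotient.factorPow mx hn).comp (mu n) = mu 1 := by
      refine RingHom.ext fun z => ?_
      induction z using TensorProduct.induction_on with
      | zero => simp
      | add a b ha hb => rw [map_add, map_add, ha, hb]
      | tmul l b =>
        rw [RingHom.comp_apply, hmu, hmu, map_mul]
        congr 1
        obtain ⟨s, rfl⟩ := AdicCompletion.mk_surjective ms Os l
        rw [hlam0, hlam0]
        rw [AdicCompletion.evalₐ_mk, AdicCompletion.evalₐ_mk, Ideal.quotientMap_mk, Ideal.quotientMap_mk]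
        have := congrArg (Ideal.quotientMap (mx ^ 1) fp (hcm 1)) (AdicCompletion.Ideal.mk_eq_mk ms hn s)
        rw [Ideal.quotientMap_mk, Ideal.quotientMap_mk] at this
        exact this
    show c1 (mu 1 z) = 0 ↔ _
    rw [← h1, RingHom.comp_apply, ← hw]
    show c1 (Ideal.Quotient.mk (mx ^ 1) w) = 0 ↔ _
    rw [hc1, IsLocalRing.residue_eq_zero_iff]
  have hmu_unit : ∀ n (t : xh.primeCompl), IsUnit (mu n (t : L ⊗[A] B)) := by
    intro n t
    rcases Nat.eq_zero_or_pos n with rfl | hn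
    · haveI : Subsingleton (Ox ⧸ mx ^ 0) := Ideal.Quotient.subsingleton_iff.2 (by simp)
      exact isUnit_of_subsingleton _
    obtain ⟨w, hw⟩ := Ideal.Quotient.mk_surjective (mu n (t : L ⊗[A] B))
    rw [← hw]
    exact (notMem_maximalIdeal.1 fun hc => t.2 ((hkey n hn _ _ hw).2 hc)).map _
  refine ⟨xh, hxp, hb, hl, hfrac, fun O' _ _ κ hκ hsurj hlift => ?_⟩
  let m' := maximalIdeal O'
  have hu : ∀ b : P.primeCompl, IsUnit (κ ((1 : L) ⊗ₜ[A] (b : B))) := fun b => by
    by_contra hc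
    exact b.2 ((hb _).1 ((hκ _).1 hc))
  let f : Ox →+* O' := IsLocalization.lift (M := P.primeCompl)
    (g := κ.comp (Algebra.TensorProduct.includeRight : B →ₐ[A] L ⊗[A] B).toRingHom) hu
  have hf : ∀ b, f (algebraMap B Ox b) = κ ((1 : L) ⊗ₜ[A] b) := fun b => IsLocalization.lift_eq _ b
  have hfm : mx.map f ≤ m' := by
    refine Ideal.map_le_iff_le_comap.2 fun z hz => ?_
    obtain ⟨⟨r, s⟩, hrs⟩ := IsLocalization.surj P.primeCompl z
    rw [Ideal.mem_comap, ← Ideal.mul_unit_mem_iff_mem _ (hu s), ← hf, ← map_mul, hrs, hf, hκ]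
    refine (hb r).2 ?_
    rw [← IsLocalization.AtPrime.to_map_mem_maximal_iff Ox P, ← hrs]
    exact Ideal.mul_mem_right _ _ hz
  choose nu hnu using fun n => hlift _ (mu n) fun t ht => hmu_unit n ⟨t, ht⟩
  have hnuf : ∀ n w, nu n (f w) = Ideal.Quotient.mk _ w := by
    intro n
    have : (nu n).comp f = Ideal.Quotient.mk _ :=
      IsLocalization.ringHom_ext P.primeCompl (RingHom.ext fun b => by
        show nu n (f (algebraMap B Ox b)) = _
        rw [hf, hnu, hmu1]; rfl)
    exact RingHom.congr_fun this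
  have hnum : ∀ n, ∀ z ∈ m' ^ n, nu n z = 0 := by
    intro n z hz
    rcases Nat.eq_zero_or_pos n with rfl | hn
    · haveI : Subsingleton (Ox ⧸ mx ^ 0) := Ideal.Quotient.subsingleton_iff.2 (by simp)
      exact Subsingleton.elim _ _
    have hle' : m'.map (nu n) ≤ mx.map (Ideal.Quotient.mk (mx ^ n)) := by
      refine Ideal.map_le_iff_le_comap.2 fun z hz => ?_
      obtain ⟨a, t, ht, hat⟩ := hsurj z
      have e1 := congrArg (nu n) hat
      rw [map_mul] at e1
      rw [hnu, hnu] at e1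
      rw [Ideal.mem_comap, ← Ideal.mul_unit_mem_iff_mem _ (hmu_unit n ⟨t, ht⟩)]
      erw [e1]
      obtain ⟨w, hw⟩ := Ideal.Quotient.mk_surjective (mu n a)
      rw [← hw]
      refine Ideal.mem_map_of_mem _ ((hkey n hn a w hw).1 ?_)
      rw [← hκ, ← hat]
      exact Ideal.mul_mem_right _ _ hz
    have h2 := Ideal.mem_map_of_mem (nu n) hz
    rw [Ideal.map_pow] at h2
    have h3 := Ideal.pow_right_mono hle' n h2
    rwa [← Ideal.map_pow, Ideal.map_quotient_self, Ideal.mem_bot] at h3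
  have hi : ∀ n r, f r ∈ m' ^ n → r ∈ mx ^ n := fun n r hr => by
    rw [← Ideal.Quotient.eq_zero_iff_mem, ← hnuf, hnum n _ hr]
  have hs : ∀ n, Function.Surjective ((Ideal.Quotient.mk (m' ^ n)).comp f) := by
    intro n
    let qf : Ox ⧸ mx ^ n →+* O' ⧸ m' ^ n := Ideal.quotientMap _ f (Ideal.map_le_iff_le_comap.1
      ((Ideal.map_pow f mx n).trans_le (Ideal.pow_right_mono hfm n)))
    -- agreement on the completion of the base
    have hL : ∀ l : L, qf (lam n l) = Ideal.Quotient.mk _ (κ (l ⊗ₜ[A] (1 : B))) := by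
      let b1 : L →+* O' := κ.comp (Algebra.TensorProduct.includeLeftRingHom : L →+* L ⊗[A] B)
      have hOs : (qf.comp (lam n)).comp (algebraMap Os L) = ((Ideal.Quotient.mk _).comp b1).comp (algebraMap Os L) := by
        refine IsLocalization.ringHom_ext q.primeCompl (RingHom.ext fun a => ?_)
        show qf (lam n (algebraMap Os L (algebraMap A Os a))) = Ideal.Quotient.mk _ (κ (algebraMap A L a ⊗ₜ[A] (1 : B)))
        rw [hlam, hfpA, Algebra.algebraMap_eq_smul_one (A := L), TensorProduct.smul_tmul,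
          ← Algebra.algebraMap_eq_smul_one]
        show Ideal.Quotient.mk _ (f (algebraMap B Ox (algebraMap A B a))) = _
        rw [hf]
      intro l
      obtain ⟨o, ho⟩ := Ideal.Quotient.mk_surjective (AdicCompletion.evalₐ ms n l)
      have hlo : l - algebraMap Os L o ∈ (ms ^ n).map (algebraMap Os L) := by
        rw [← evalₐ_eq_zero_iff_mem_map, map_sub, AlgHom.commutes, ← ho]
        exact sub_self _
      have e1 : lam n l = lam n (algebraMap Os L o) := by
        rw [hlam]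
        rw [hlam0]
        rw [← ho, Ideal.quotientMap_mk]
      have e2 : Ideal.Quotient.mk (m' ^ n) (b1 l) = Ideal.Quotient.mk _ (b1 (algebraMap Os L o)) := by
        rw [Ideal.Quotient.eq, ← map_sub]
        have h1 := Ideal.mem_map_of_mem b1 hlo
        rw [Ideal.map_pow, Ideal.map_pow] at h1
        refine Ideal.pow_right_mono ?_ n h1
        rw [Ideal.map_map, Ideal.map_le_iff_le_comap]
        intro o ho
        rw [Ideal.mem_comap]
        show κ (algebraMap Os L o ⊗ₜ[A] (1 : B)) ∈ _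
        rw [hκ]
        refine (hl _).2 ?_
        rw [AdicCompletion.maximalIdeal_eq_map]
        exact Ideal.mem_map_of_mem _ ho
      rw [e1]
      exact (RingHom.congr_fun hOs o).trans e2.symm
    have hq : qf.comp (mu n) = (Ideal.Quotient.mk _).comp κ := by
      refine RingHom.ext fun z => ?_
      induction z using TensorProduct.induction_on with
      | zero => simp
      | add a b ha hb => rw [map_add, map_add, ha, hb]
      | tmul l b =>
        rw [RingHom.comp_apply, RingHom.comp_apply, hmu, map_mul, hL,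
          show qf (Ideal.Quotient.mk _ (algebraMap B Ox b)) = Ideal.Quotient.mk _ (f (algebraMap B Ox b)) from rfl,
          hf, ← map_mul, ← map_mul, Algebra.TensorProduct.tmul_mul_tmul, mul_one, one_mul]
    intro z
    obtain ⟨z, rfl⟩ := Ideal.Quotient.mk_surjective z
    obtain ⟨a, t, ht, hat⟩ := hsurj z
    obtain ⟨w, hw⟩ := Ideal.Quotient.mk_surjective (nu n z)
    refine ⟨w, ?_⟩
    show Ideal.Quotient.mk _ (f w) = _
    have e1 := congrArg (nu n) hat
    rw [map_mul] at e1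
    rw [hnu, hnu] at e1
    have e2 := congrArg qf e1
    have e3 := congrArg (Ideal.Quotient.mk (m' ^ n)) hat
    rw [map_mul] at e2 e3
    have hqt := RingHom.congr_fun hq t
    have hqa := RingHom.congr_fun hq a
    rw [RingHom.comp_apply, RingHom.comp_apply] at hqt hqa
    erw [hqt, hqa] at e2
    have hut : IsUnit (Ideal.Quotient.mk (m' ^ n) (κ t)) := by
      refine IsUnit.map _ ?_
      by_contra hc; exact ht ((hκ _).1 hc)
    rw [show Ideal.Quotient.mk (m' ^ n) (f w) = qf (nu n z) from (by rw [← hw]; rfl)]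
    exact hut.mul_left_inj.1 (e2.trans e3.symm)
  obtain ⟨F, hF⟩ := exists_completion_equiv f hfm hs hi
  exact ⟨F, fun b => (hF _).trans (congrArg _ (hf b))⟩

end Groth.Agent.EtNhd31
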