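import Groth.Agent.EtNhd31.Geo

/-!
Stalks and residue fields of spectra.
-/

set_option autoImplicit false
set_option linter.style.haveILetI false
universe u

open CategoryTheory AlgebraicGeometry IsLocalRing

namespace Groth.Agent.EtNhd31

attribute [local instance] isPrime_spec

theorem stalkMap_toStk {Q R : CommRingCat.{u}} (ψ : Q ⟶ R) (u : Spec R) (b : Q) :
    ((Spec.map ψ).stalkMap u).hom (toStk Q ((Spec.map ψ) u) b) = toStk R u (ψ.hom b) := by
  have hle : (⊤ : (Spec R).Opens) ≤ (Spec.map ψ) ⁻¹ᵁ ⊤ := le_of_eq rfl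
  refine (germ_stalkMap_appLE (Spec.map ψ) ⊤ hle u trivial trivial _).trans ?_
  show (Spec R).presheaf.germ ⊤ u trivial _ = (Spec R).presheaf.germ ⊤ u trivial _
  congr 1
  have := congr($(Scheme.ΓSpecIso_inv_naturality ψ) b)
  refine Eq.trans ?_ this.symm
  simp [Scheme.Hom.appLE, Scheme.Hom.appTop]
  try rfl

theorem stalkMap_toStk' {Q R : CommRingCat.{u}} (ψ : Q ⟶ R) (u : Spec R) (v : Spec Q) (h : (Spec.map ψ) u = v)
    (b : Q) :
    ((Spec.map ψ).stalkMap u).hom (((Spec Q).presheaf.stalkCongr (Inseparable.of_eq h)).inv.hom (toStk Q v b)) =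
      toStk R u (ψ.hom b) := by
  subst h
  rw [show ((Spec Q).presheaf.stalkCongr (Inseparable.of_eq (rfl : (Spec.map ψ) u = _))).inv = 𝟙 _ from
    TopCat.Presheaf.stalkSpecializes_refl _ _]
  exact stalkMap_toStk ψ u b

theorem stalkCongr_toStk (R : CommRingCat.{u}) {x y : Spec R} (h : x = y) (b : R) :
    ((Spec R).presheaf.stalkCongr (Inseparable.of_eq h)).hom.hom (toStk R x b) = toStk R y b := by
  subst h
  rw [show ((Spec R).presheaf.stalkCongr (Inseparable.of_eq (rfl : x = x))).hom = 𝟙 _ from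
    TopCat.Presheaf.stalkSpecializes_refl _ _]
  rfl

/-- Fractions from a trivial residue extension along the spectrum of a ring map. -/
theorem spec_fractions_of_bijective {Q R : CommRingCat.{u}} (ψ : Q ⟶ R) (u : Spec R)
    (h : Function.Bijective ((Spec.map ψ).residueFieldMap u)) (z : R) :
    ∃ r s : Q, ψ.hom s ∉ PrimeSpectrum.asIdeal u ∧ ψ.hom s * z - ψ.hom r ∈ PrimeSpectrum.asIdeal u := by
  obtain ⟨k, hk⟩ := h.2 ((Spec R).residue u (toStk R u z))
  obtain ⟨w, rfl⟩ := (Spec Q).residue_surjective _ k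
  obtain ⟨r, s, hs, hw⟩ := toStk_surj Q _ w
  have h1 := congr($(Scheme.residue_residueFieldMap (Spec.map ψ) u) w)
  have h2 : (Spec R).residue u (((Spec.map ψ).stalkMap u).hom w) = (Spec R).residue u (toStk R u z) := h1.symm.trans hk
  have h3 : ((Spec.map ψ).stalkMap u).hom w - toStk R u z ∈ maximalIdeal _ := Ideal.Quotient.eq.1 h2
  refine ⟨r, s, fun hm => hs hm, ?_⟩
  rw [← toStk_mem_iff R u, map_sub, map_mul, ← stalkMap_toStk, ← stalkMap_toStk, ← hw, map_mul]
  have := Ideal.mul_mem_left _ (((Spec.map ψ).stalkMap u).hom (toStk Q _ s)) h3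
  convert (maximalIdeal _).neg_mem this using 1
  ring

/-- The stalk at the closed point of a local ring. -/
theorem toStk_bijective (R : Type u) [CommRing R] [IsLocalRing R] (v : Spec (CommRingCat.of R))
    (hv : PrimeSpectrum.asIdeal v = maximalIdeal R) : Function.Bijective (toStk (CommRingCat.of R) v) := by
  have hunit : ∀ t : R, t ∉ PrimeSpectrum.asIdeal v → IsUnit t := fun t ht =>
    notMem_maximalIdeal.1 (hv ▸ ht)
  refine ⟨(injective_iff_map_eq_zero _).2 fun r hr => ?_, fun w => ?_⟩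
  · rw [toStk_eq] at hr
    have h1 := congrArg (Spec.stalkIso (CommRingCat.of R) v).hom.hom hr
    rw [map_zero] at h1
    erw [show ∀ w, (Spec.stalkIso (CommRingCat.of R) v).hom.hom ((Spec.stalkIso (CommRingCat.of R) v).inv.hom w) = w
      from fun w => congr($((Spec.stalkIso (CommRingCat.of R) v).inv_hom_id) w)] at h1
    obtain ⟨⟨t, ht⟩, htr⟩ := (IsLocalization.map_eq_zero_iff (PrimeSpectrum.asIdeal v).primeCompl _ r).1 h1
    exact (hunit t ht).mul_right_eq_zero.1 htr
  · obtain ⟨z, t, ht, hw⟩ := toStk_surj (CommRingCat.of R) v w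
    obtain ⟨i, hi⟩ := (hunit t ht).exists_right_inv
    refine ⟨z * i, ?_⟩
    rw [map_mul, ← hw, mul_assoc, ← map_mul]
    erw [hi]
    rw [map_one, mul_one]

end Groth.Agent.EtNhd31
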