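import Groth.Agent.EtNhd31.Iso
import Groth.Agent.EtNhd31.Local
import Groth.Agent.EtNhd31.Spec
import Groth.Agent.EtNhd31.Approx
import Groth.Agent.EGA4H10.CompleteGRing
import Mathlib.AlgebraicGeometry.Morphisms.FiniteType

/-!
Matching a completed base change by étale neighbourhoods.
-/

set_option autoImplicit false
set_option linter.style.haveILetI false
universe u

open CategoryTheory CategoryTheory.Limits AlgebraicGeometry IsLocalRing TensorProduct

namespace Groth.Agent.EtNhd31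

attribute [local instance] isPrime_spec

variable {X Y S T : Scheme.{u}}

theorem finiteType_int [LocallyOfFiniteType (specULiftZIsTerminal.from T)] {WT : T.Opens} (hWT : IsAffineOpen WT) :
    Algebra.FiniteType ℤ Γ(T, WT) := by
  let f := specULiftZIsTerminal.from T
  have h1 := LocallyOfFiniteType.finiteType_appLE f (isAffineOpen_top _) hWT (e := le_top)
  let c : ℤ →+* Γ(Spec (.of (ULift.{u} ℤ)), ⊤) :=
    ((Scheme.ΓSpecIso (CommRingCat.of (ULift.{u} ℤ))).inv.hom).comp (ULift.ringEquiv.symm.toRingHom)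
  have hc : c.FiniteType := RingHom.FiniteType.of_surjective _
    ((ConcreteCategory.bijective_of_isIso (Scheme.ΓSpecIso (CommRingCat.of (ULift.{u} ℤ))).inv).2.comp
      ULift.ringEquiv.symm.surjective)
  have h2 := h1.comp hc
  rw [RingHom.ext_int (RingHom.comp _ _) (algebraMap ℤ Γ(T, WT))] at h2
  exact RingHom.finiteType_algebraMap.1 h2

theorem residueFieldMap_bijective_precomp {U' U Z : Scheme.{u}} (i : U' ⟶ U) [IsOpenImmersion i] (k : U ⟶ Z)
    (z : U') (u : U) (h : i z = u) (hk : Function.Bijective (k.residueFieldMap u)) :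
    Function.Bijective ((i ≫ k).residueFieldMap z) := by
  subst h
  rw [Scheme.residueFieldMap_comp]
  exact (ConcreteCategory.bijective_of_isIso (i.residueFieldMap z)).comp hk

theorem exists_matching [IsLocallyNoetherian S] (p : X ⟶ S) (q : Y ⟶ T) [LocallyOfFiniteType p]
    [LocallyOfFiniteType q] [LocallyOfFiniteType (specULiftZIsTerminal.from T)]
    (x : X) (hG : CAlg.IsGRing ↑(S.presheaf.stalk (p x))) (y : Y) {WT : T.Opens} (hWT : IsAffineOpen WT)
    (hy : q y ∈ WT)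
    (ρ : Γ(T, WT) ⟶ CommRingCat.of (AdicCompletion (maximalIdeal ↑(S.presheaf.stalk (p x))) ↑(S.presheaf.stalk (p x))))
    (hρ : ∀ r, ρ.hom r ∈ maximalIdeal (AdicCompletion (maximalIdeal ↑(S.presheaf.stalk (p x))) ↑(S.presheaf.stalk (p x))) ↔
      r ∈ PrimeSpectrum.asIdeal (hWT.primeIdealOf ⟨q y, hy⟩))
    (g : Spec (CommRingCat.of (AdicCompletion (maximalIdeal ↑(S.presheaf.stalk (p x))) ↑(S.presheaf.stalk (p x)))) ⟶ T)
    (hg : g = Spec.map ρ ≫ hWT.fromSpec)
    (yσ : ↑(pullback q g)) (hyσ : (pullback.fst q g) yσ = y)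
    (hyσc : (pullback.snd q g) yσ =
      closedPoint (AdicCompletion (maximalIdeal ↑(S.presheaf.stalk (p x))) ↑(S.presheaf.stalk (p x))))
    (φ : AdicCompletion (maximalIdeal ↑(X.presheaf.stalk x)) ↑(X.presheaf.stalk x) ≃+*
      AdicCompletion (maximalIdeal ↑((pullback q g).presheaf.stalk yσ)) ↑((pullback q g).presheaf.stalk yσ))
    (hφ : ∀ o : S.presheaf.stalk (p x), φ (algebraMap _ _ ((p.stalkMap x).hom o)) =
      algebraMap _ _ (((pullback.snd q g).stalkMap yσ).hom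
        (toStk (CommRingCat.of (AdicCompletion (maximalIdeal ↑(S.presheaf.stalk (p x))) ↑(S.presheaf.stalk (p x))))
          ((pullback.snd q g) yσ) (algebraMap _ _ o)))) :
    ∃ (V : Scheme.{u}) (v : V) (e : V ⟶ S) (τ : V ⟶ T) (W : Scheme.{u}) (w : W) (a : W ⟶ X)
      (b : W ⟶ pullback q τ),
      Etale e ∧ e v = p x ∧ Function.Bijective (e.residueFieldMap v) ∧ τ v = q y ∧
      Etale a ∧ a w = x ∧ Function.Bijective (a.residueFieldMap w) ∧
      a ≫ p = b ≫ pullback.snd q τ ≫ e ∧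
      Etale b ∧ (pullback.fst q τ) (b w) = y ∧ (pullback.snd q τ) (b w) = v ∧
      Function.Bijective (b.residueFieldMap w) := by
  classical
  -- charts
  obtain ⟨_, ⟨Ws, hWs, rfl⟩, hxW, -⟩ := S.isBasis_affineOpens.exists_subset_of_mem_open
    (Set.mem_univ (p x)) isOpen_univ
  obtain ⟨_, ⟨VX, hVX, rfl⟩, hxV, hVXle⟩ := X.isBasis_affineOpens.exists_subset_of_mem_open
    (show x ∈ p ⁻¹ᵁ Ws from hxW) (p ⁻¹ᵁ Ws).2
  obtain ⟨_, ⟨VY, hVY, rfl⟩, hyV, hVYle⟩ := Y.isBasis_affineOpens.exists_subset_of_mem_open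
    (show y ∈ q ⁻¹ᵁ WT from hy) (q ⁻¹ᵁ WT).2
  haveI : IsNoetherianRing Γ(S, Ws) := IsLocallyNoetherian.component_noetherian ⟨Ws, hWs⟩
  letI : Algebra Γ(S, Ws) Γ(X, VX) := (p.appLE Ws VX hVXle).hom.toAlgebra
  letI : Algebra Γ(T, WT) Γ(Y, VY) := (q.appLE WT VY hVYle).hom.toAlgebra
  haveI : Algebra.FiniteType Γ(S, Ws) Γ(X, VX) := LocallyOfFiniteType.finiteType_appLE p hWs hVX hVXle
  haveI : Algebra.FiniteType Γ(T, WT) Γ(Y, VY) := LocallyOfFiniteType.finiteType_appLE q hWT hVY hVYle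
  haveI : Algebra.FiniteType ℤ Γ(T, WT) := finiteType_int hWT
  letI : Algebra Γ(X, VX) (X.presheaf.stalk x) := (X.presheaf.germ VX x hxV).hom.toAlgebra
  haveI hlocX : IsLocalization.AtPrime (X.presheaf.stalk x) (hVX.primeIdealOf ⟨x, hxV⟩).asIdeal :=
    hVX.isLocalization_stalk ⟨x, hxV⟩
  letI : Algebra Γ(S, Ws) (S.presheaf.stalk (p x)) := (S.presheaf.germ Ws (p x) hxW).hom.toAlgebra
  haveI hlocS : IsLocalization.AtPrime (S.presheaf.stalk (p x)) (hWs.primeIdealOf ⟨p x, hxW⟩).asIdeal :=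
    hWs.isLocalization_stalk ⟨p x, hxW⟩
  haveI : IsNoetherianRing (S.presheaf.stalk (p x)) := hG.1
  haveI : IsLocallyNoetherian X := LocallyOfFiniteType.isLocallyNoetherian p
  let Os := S.presheaf.stalk (p x)
  let L := AdicCompletion (maximalIdeal Os) Os
  haveI : IsNoetherianRing L := CAlg1.isNoetherianRing_adicCompletion _ (IsNoetherian.noetherian _)
  letI : Algebra Γ(T, WT) L := ρ.hom.toAlgebra
  -- the point over the completion
  have hfpA : ∀ a, (p.stalkMap x).hom (algebraMap Γ(S, Ws) (S.presheaf.stalk (p x)) a) =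
      algebraMap Γ(X, VX) (X.presheaf.stalk x) (algebraMap Γ(S, Ws) Γ(X, VX) a) := fun a =>
    germ_stalkMap_appLE p Ws hVXle x hxV hxW a
  obtain ⟨xh, hxp, hxb, hxl, hxfrac, hcompl⟩ := exists_completed_prime (Os := S.presheaf.stalk (p x))
    (Ox := X.presheaf.stalk x) (hWs.primeIdealOf ⟨p x, hxW⟩).asIdeal (hVX.primeIdealOf ⟨x, hxV⟩).asIdeal
    (p.stalkMap x).hom hfpA (((local_hom_TFAE (p.stalkMap x).hom).out 0 2 rfl rfl).mp inferInstance)
  let BL := CommRingCat.of (L ⊗[Γ(S, Ws)] Γ(X, VX))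
  let pt : Spec BL := (⟨xh, hxp⟩ : PrimeSpectrum (L ⊗[Γ(S, Ws)] Γ(X, VX)))
  obtain ⟨F, hF⟩ := hcompl ((Spec BL).presheaf.stalk pt) (toStk BL pt) (fun z => toStk_mem_iff BL pt z)
    (fun w => by obtain ⟨z, t, ht, h⟩ := toStk_surj BL pt w; exact ⟨z, t, ht, h⟩)
    (fun T' _ k hk => by
      haveI : (PrimeSpectrum.asIdeal pt).IsPrime := hxp
      let l := IsLocalization.lift (M := (PrimeSpectrum.asIdeal pt).primeCompl)
        (S := Localization.AtPrime (PrimeSpectrum.asIdeal pt)) (g := k) fun t => hk t t.2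
      refine ⟨l.comp (Spec.stalkIso BL pt).hom.hom, fun z => ?_⟩
      rw [RingHom.comp_apply, toStk_eq]
      erw [show ∀ w, (Spec.stalkIso BL pt).hom.hom ((Spec.stalkIso BL pt).inv.hom w) = w
        from fun w => congr($((Spec.stalkIso BL pt).inv_hom_id) w)]
      exact IsLocalization.lift_eq _ z)
  let G := Spec (CommRingCat.of L)
  let incL : CommRingCat.of L ⟶ BL := CommRingCat.ofHom Algebra.TensorProduct.includeLeftRingHom
  let pX : Spec BL ⟶ G := Spec.map incL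
  let qY : pullback q g ⟶ G := pullback.snd q g
  haveI : LocallyOfFiniteType pX := by
    rw [HasRingHomProperty.Spec_iff (P := @LocallyOfFiniteType)]
    show (algebraMap L (L ⊗[Γ(S, Ws)] Γ(X, VX))).FiniteType
    exact RingHom.finiteType_algebraMap.2 inferInstance
  haveI : LocallyOfFiniteType qY := inferInstanceAs (LocallyOfFiniteType (pullback.snd q g))
  haveI : IsLocallyNoetherian G := inferInstance
  have hpt : PrimeSpectrum.asIdeal (pX pt) = maximalIdeal L := Ideal.ext fun l => hxl l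
  have hxy : pX pt = qY yσ := by
    rw [show qY yσ = _ from hyσc]
    exact PrimeSpectrum.ext hpt
  have hGcl : CAlg.IsGRing (G.presheaf.stalk (pX pt)) :=
    EGA4H10.isGRing_of_ringEquiv (RingEquiv.ofBijective _ (toStk_bijective L (pX pt) hpt))
      (EGA4H10.isGRing_of_complete L)
  haveI : IsLocallyNoetherian (Spec BL) := LocallyOfFiniteType.isLocallyNoetherian pX
  haveI : IsLocallyNoetherian (pullback q g) := LocallyOfFiniteType.isLocallyNoetherian qY
  -- compatibility of the completions over the completed base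
  let aH : L →+* AdicCompletion (maximalIdeal ((Spec BL).presheaf.stalk pt)) ((Spec BL).presheaf.stalk pt) :=
    (φ.symm.trans F).toRingHom.comp ((algebraMap _ (AdicCompletion (maximalIdeal ↑((pullback q g).presheaf.stalk yσ))
      ↑((pullback q g).presheaf.stalk yσ))).comp ((qY.stalkMap yσ).hom.comp (toStk (CommRingCat.of L) (qY yσ))))
  let bH : L →+* AdicCompletion (maximalIdeal ((Spec BL).presheaf.stalk pt)) ((Spec BL).presheaf.stalk pt) :=
    (algebraMap _ _).comp ((toStk BL pt).comp incL.hom)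
  have hagree : aH.comp (algebraMap Os L) = bH.comp (algebraMap Os L) := by
    refine IsLocalization.ringHom_ext (hWs.primeIdealOf ⟨p x, hxW⟩).asIdeal.primeCompl (RingHom.ext fun a => ?_)
    show F (φ.symm (algebraMap _ _ ((qY.stalkMap yσ).hom (toStk (CommRingCat.of L) (qY yσ)
      (algebraMap Os L (algebraMap Γ(S, Ws) Os a)))))) = _
    rw [← hφ, RingEquiv.symm_apply_apply, hfpA]
    refine (hF _).trans ?_
    show algebraMap _ _ (toStk BL pt _) = algebraMap _ _ (toStk BL pt _)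
    congr 2
    show (1 : L) ⊗ₜ[Γ(S, Ws)] algebraMap Γ(S, Ws) Γ(X, VX) a = algebraMap Os L (algebraMap Γ(S, Ws) Os a) ⊗ₜ[Γ(S, Ws)] (1 : Γ(X, VX))
    rw [← IsScalarTower.algebraMap_apply Γ(S, Ws) Os L, Algebra.algebraMap_eq_smul_one,
      Algebra.algebraMap_eq_smul_one, TensorProduct.tmul_smul, TensorProduct.smul_tmul']
  have hab : aH = bH := completion_hom_ext aH bH (fun o => RingHom.congr_fun hagree o) fun o ho => by
    rw [show aH (algebraMap Os L o) = bH (algebraMap Os L o) from RingHom.congr_fun hagree o]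
    refine Ideal.mem_map_of_mem _ ((toStk_mem_iff BL pt _).2 ((hxl _).2 ?_))
    rw [AdicCompletion.maximalIdeal_eq_map]
    exact Ideal.mem_map_of_mem _ ho
  obtain ⟨U, u, e, heu, f, hfu, he, hre, hf, hrf, hsq, -⟩ := exists_common_nbhd pX qY pt yσ hxy hGcl
    (φ.symm.trans F) (by
      refine RingHom.ext fun w => ?_
      obtain ⟨l, rfl⟩ := (toStk_bijective L (pX pt) hpt).2 w
      refine Eq.trans ?_ ((RingHom.congr_fun hab l).trans ?_)
      · show (φ.symm.trans F) (algebraMap _ _ ((qY.stalkMap yσ).hom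
          ((G.presheaf.stalkCongr (Inseparable.of_eq hxy)).hom.hom (toStk (CommRingCat.of L) (pX pt) l)))) = _
        rw [stalkCongr_toStk (CommRingCat.of L) hxy]
        rfl
      · show algebraMap _ _ (toStk BL pt (incL.hom l)) = algebraMap _ _ ((pX.stalkMap pt).hom _)
        rw [stalkMap_toStk]) 1 le_rfl
  -- an affine neighbourhood
  obtain ⟨_, ⟨U0, hU0, rfl⟩, huU, hU0le⟩ := U.isBasis_affineOpens.exists_subset_of_mem_open
    (show u ∈ (f ≫ pullback.fst q g) ⁻¹ᵁ VY by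
      show (pullback.fst q g) (f u) ∈ VY
      rw [hfu, hyσ]; exact hyV) ((f ≫ pullback.fst q g) ⁻¹ᵁ VY).2
  let i := hU0.fromSpec
  let W := Γ(U, U0)
  let uW : Spec W := hU0.primeIdealOf ⟨u, huU⟩
  have hiu : i uW = u := hU0.fromSpec_primeIdealOf ⟨u, huU⟩
  haveI := he
  haveI := hf
  have hresi : ∀ {Z : Scheme.{u}} (k : U ⟶ Z), Function.Bijective (k.residueFieldMap u) →
      Function.Bijective ((i ≫ k).residueFieldMap uW) := fun {Z} k hk =>
    residueFieldMap_bijective_precomp i k uW u hiu hk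
  let gB0 : BL ⟶ W := Spec.preimage (i ≫ e)
  let lam0 : CommRingCat.of L ⟶ W := Spec.preimage (i ≫ f ≫ qY)
  have hincl : incL ≫ gB0 = lam0 := by
    apply Spec.map_injective
    rw [Spec.map_comp, Spec.map_preimage, Spec.map_preimage, Category.assoc]
    exact congrArg (i ≫ ·) hsq.symm
  have hrange : Set.range (i ≫ f ≫ pullback.fst q g) ⊆ Set.range hVY.fromSpec := by
    rw [hVY.range_fromSpec]
    rintro _ ⟨z, rfl⟩
    refine hU0le ?_
    have : i z ∈ Set.range i := ⟨z, rfl⟩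
    rwa [hU0.range_fromSpec] at this
  let γ0 : Γ(Y, VY) ⟶ W := Spec.preimage (IsOpenImmersion.lift hVY.fromSpec (i ≫ f ≫ pullback.fst q g) hrange)
  have hγ0 : Spec.map γ0 ≫ hVY.fromSpec = i ≫ f ≫ pullback.fst q g := by
    rw [Spec.map_preimage, IsOpenImmersion.lift_fac]
  have hTsq : q.appLE WT VY hVYle ≫ γ0 = ρ ≫ lam0 := by
    apply Spec.map_injective
    rw [← cancel_mono hWT.fromSpec, Spec.map_comp, Spec.map_comp, Category.assoc, Category.assoc,
      hWT.SpecMap_appLE_fromSpec q hVY hVYle, reassoc_of% hγ0, ← hg, Spec.map_preimage]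
    simp only [qY, Category.assoc, pullback.condition]
  letI : Algebra L W := lam0.hom.toAlgebra
  let gB : L ⊗[Γ(S, Ws)] Γ(X, VX) →ₐ[L] W :=
    { gB0.hom with commutes' := fun l => congr($(hincl) l) }
  letI : Algebra Γ(T, WT) W := (lam0.hom.comp ρ.hom).toAlgebra
  haveI : IsScalarTower Γ(T, WT) L W := IsScalarTower.of_algebraMap_eq fun _ => rfl
  let γA : Γ(Y, VY) →ₐ[Γ(T, WT)] W := { γ0.hom with commutes' := fun r => congr($(hTsq) r) }
  let gC : L ⊗[Γ(T, WT)] Γ(Y, VY) →ₐ[L] W :=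
    Algebra.TensorProduct.lift (Algebra.ofId L W) γA fun _ _ => Commute.all _ _
  have hgC1 : ∀ c, gC ((1 : L) ⊗ₜ[Γ(T, WT)] c) = γ0.hom c := fun c => by
    rw [Algebra.TensorProduct.lift_tmul, map_one, one_mul]; rfl
  subst hg
  obtain ⟨jL, hjL, hjL1, hjL2, -⟩ := exists_chart q hWT hVY hVYle (CommRingCat.of L) ρ
  haveI := hjL
  let gC0 : CommRingCat.of (L ⊗[Γ(T, WT)] Γ(Y, VY)) ⟶ W := CommRingCat.ofHom gC.toRingHom
  have hfW : Spec.map gC0 ≫ jL = i ≫ f := by
    refine pullback.hom_ext ?_ ?_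
    · rw [Category.assoc, hjL1, ← Spec.map_comp_assoc, Category.assoc, ← hγ0]
      congr 2
      exact CommRingCat.hom_ext (RingHom.ext hgC1)
    · rw [Category.assoc, hjL2, ← Spec.map_comp, Category.assoc]
      refine Eq.trans ?_ (Spec.map_preimage (i ≫ f ≫ qY))
      congr 1
      exact CommRingCat.hom_ext (RingHom.ext fun l => gC.commutes l)
  have hgBet : gB.toRingHom.Etale := by
    have : Etale (Spec.map gB0) := by rw [Spec.map_preimage]; infer_instance
    exact (HasRingHomProperty.Spec_iff (P := @Etale)).1 this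
  have hgCet : gC.toRingHom.Etale := by
    haveI : Etale (Spec.map gC0 ≫ jL) := by rw [hfW]; infer_instance
    have : Etale (Spec.map gC0) := Etale.of_comp (Spec.map gC0) jL
    exact (HasRingHomProperty.Spec_iff (P := @Etale)).1 this
  -- the point
  have hB0pt : (Spec.map gB0) uW = pt := by
    rw [Spec.map_preimage]
    show e (i uW) = pt
    rw [hiu, heu]
  have hC0pt : jL ((Spec.map gC0) uW) = yσ := by
    show (Spec.map gC0 ≫ jL) uW = yσ
    rw [hfW]
    show f (i uW) = yσ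
    rw [hiu, hfu]
  have hkB : ∀ z, gB z ∈ PrimeSpectrum.asIdeal uW ↔ z ∈ xh := fun z => by
    show z ∈ PrimeSpectrum.asIdeal ((Spec.map gB0) uW) ↔ _
    rw [hB0pt]
  have hPu : ∀ l : L, algebraMap L W l ∈ PrimeSpectrum.asIdeal uW ↔ l ∈ maximalIdeal L := fun l => by
    rw [← hxl, ← hkB, ← gB.commutes]
    rfl
  have hC0y : (Spec.map γ0) uW = hVY.primeIdealOf ⟨y, hyV⟩ := by
    apply hVY.fromSpec.isOpenEmbedding.injective
    rw [hVY.fromSpec_primeIdealOf]
    show (Spec.map γ0 ≫ hVY.fromSpec) uW = y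
    rw [hγ0]
    show (pullback.fst q _) (f (i uW)) = y
    rw [hiu, hfu, hyσ]
  have hkC : ∀ c, gC ((1 : L) ⊗ₜ[Γ(T, WT)] c) ∈ PrimeSpectrum.asIdeal uW ↔
      c ∈ PrimeSpectrum.asIdeal (hVY.primeIdealOf ⟨y, hyV⟩) := fun c => by
    rw [hgC1, ← hC0y]
    rfl
  have hfB : ∀ z : W, ∃ r s : Γ(X, VX), gB ((1 : L) ⊗ₜ[Γ(S, Ws)] s) ∉ PrimeSpectrum.asIdeal uW ∧
      gB ((1 : L) ⊗ₜ[Γ(S, Ws)] s) * z - gB ((1 : L) ⊗ₜ[Γ(S, Ws)] r) ∈ PrimeSpectrum.asIdeal uW := by
    intro z
    obtain ⟨a, b, hb, hab⟩ := spec_fractions_of_bijective gB0 uW (by rw [Spec.map_preimage]; exact hresi e hre) z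
    obtain ⟨ra, sa, hsa, ha⟩ := hxfrac a
    obtain ⟨rb, sb, hsb, hb'⟩ := hxfrac b
    have hrb : (1 : L) ⊗ₜ[Γ(S, Ws)] rb ∉ xh := fun h => by
      have := add_mem hb' h
      rw [sub_add_cancel] at this
      exact (hxp.mem_or_mem this).elim hsb fun hh => hb ((hkB b).2 hh)
    refine ⟨ra * sb, rb * sa, fun h => ?_, ?_⟩
    · rw [hkB, ← mul_one (1 : L), ← Algebra.TensorProduct.tmul_mul_tmul] at h
      exact (hxp.mem_or_mem h).elim hrb hsa
    rw [← Ideal.Quotient.eq_zero_iff_mem, map_sub, map_mul, ← mul_one (1 : L),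
      ← Algebra.TensorProduct.tmul_mul_tmul, ← Algebra.TensorProduct.tmul_mul_tmul, map_mul, map_mul, map_mul, map_mul]
    have e1 := Ideal.Quotient.eq_zero_iff_mem.2 hab
    have e2 := Ideal.Quotient.eq_zero_iff_mem.2 ((hkB _).2 ha)
    have e3 := Ideal.Quotient.eq_zero_iff_mem.2 ((hkB _).2 hb')
    simp only [map_sub, map_mul] at e1 e2 e3
    linear_combination (Ideal.Quotient.mk _ (gB ((1 : L) ⊗ₜ[Γ(S, Ws)] sa)) *
        Ideal.Quotient.mk _ (gB ((1 : L) ⊗ₜ[Γ(S, Ws)] sb))) * e1 -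
      (Ideal.Quotient.mk _ (gB ((1 : L) ⊗ₜ[Γ(S, Ws)] sa)) * Ideal.Quotient.mk _ z) * e3 +
      (Ideal.Quotient.mk _ (gB ((1 : L) ⊗ₜ[Γ(S, Ws)] sb))) * e2
  have hfC : ∀ z : W, ∃ r s, gC s ∉ PrimeSpectrum.asIdeal uW ∧ gC s * z - gC r ∈ PrimeSpectrum.asIdeal uW := by
    refine spec_fractions_of_bijective gC0 uW ?_
    have h := hresi f hrf
    rw [← hfW, Scheme.residueFieldMap_comp] at h
    exact ((Function.Bijective.of_comp_iff _ (ConcreteCategory.bijective_of_isIso (jL.residueFieldMap _))).1 h)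
  -- descend
  haveI : (PrimeSpectrum.asIdeal uW).IsPrime := isPrime_spec uW
  obtain ⟨A', _, ι₀, P', hP', hA'et, hcomap, hres, ρ', hρ', WV, _, kB, kC, w, hw, hkBet, hkCet, hkBC, hkA, hkwB, hkwC,
    hwfB, hwfC⟩ := exists_descended_pair (hWs.primeIdealOf ⟨p x, hxW⟩).asIdeal hG gB hgBet gC hgCet
      (PrimeSpectrum.asIdeal uW) hPu hfB hfC
  letI : Algebra Γ(S, Ws) A' := ι₀.toAlgebra
  let ι : Γ(S, Ws) ⟶ CommRingCat.of A' := CommRingCat.ofHom ι₀
  let ρ'' : Γ(T, WT) ⟶ CommRingCat.of A' := CommRingCat.ofHom ρ'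
  let V := Spec (CommRingCat.of A')
  let v : V := (⟨P', hP'⟩ : PrimeSpectrum A')
  let eV : V ⟶ S := Spec.map ι ≫ hWs.fromSpec
  let τ : V ⟶ T := Spec.map ρ'' ≫ hWT.fromSpec
  haveI : Etale eV := by
    haveI : Etale (Spec.map ι) := by
      rw [HasRingHomProperty.Spec_iff (P := @Etale)]
      exact RingHom.etale_algebraMap.2 hA'et
    infer_instance
  obtain ⟨jX, hjX, hjX1, hjX2, -⟩ := exists_chart p hWs hVX hVXle (CommRingCat.of A') ι
  obtain ⟨jV, hjV, hjV1, hjV2, -⟩ := exists_chart q hWT hVY hVYle (CommRingCat.of A') ρ''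
  haveI := hjX
  haveI := hjV
  let kB' : CommRingCat.of (A' ⊗[Γ(S, Ws)] Γ(X, VX)) ⟶ CommRingCat.of WV := CommRingCat.ofHom kB
  letI : Algebra Γ(T, WT) A' := ρ'.toAlgebra
  let kC' : CommRingCat.of (A' ⊗[Γ(T, WT)] Γ(Y, VY)) ⟶ CommRingCat.of WV := CommRingCat.ofHom kC
  haveI : Etale (Spec.map kB') := (HasRingHomProperty.Spec_iff (P := @Etale)).2 hkBet
  haveI : Etale (Spec.map kC') := (HasRingHomProperty.Spec_iff (P := @Etale)).2 hkCet
  let pw : Spec (CommRingCat.of WV) := (⟨w, hw⟩ : PrimeSpectrum WV)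
  let a : Spec (CommRingCat.of WV) ⟶ X := Spec.map kB' ≫ jX ≫ pullback.fst p eV
  let b : Spec (CommRingCat.of WV) ⟶ pullback q τ := Spec.map kC' ≫ jV
  let kBB : Γ(X, VX) ⟶ CommRingCat.of WV := CommRingCat.ofHom
    (kB.comp (Algebra.TensorProduct.includeRight : Γ(X, VX) →ₐ[Γ(S, Ws)] A' ⊗[Γ(S, Ws)] Γ(X, VX)).toRingHom)
  have ha : a = Spec.map kBB ≫ hVX.fromSpec := by
    show Spec.map kB' ≫ jX ≫ pullback.fst p eV = _
    rw [hjX1, ← Spec.map_comp_assoc]
    rfl
  have hav : a pw = x := by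
    rw [ha]
    show hVX.fromSpec ((Spec.map kBB) pw) = x
    rw [show (Spec.map kBB) pw = hVX.primeIdealOf ⟨x, hxV⟩ from PrimeSpectrum.ext (Ideal.ext fun c =>
      ((hkwB c).trans (hkB _)).trans (hxb c)), hVX.fromSpec_primeIdealOf]
  refine ⟨V, v, eV, τ, Spec (CommRingCat.of WV), pw, a, b, inferInstance, ?_, ?_, ?_, ?_, hav, ?_, ?_, inferInstance,
    ?_, ?_, ?_⟩
  · show hWs.fromSpec ((Spec.map ι) v) = p x
    rw [show (Spec.map ι) v = hWs.primeIdealOf ⟨p x, hxW⟩ from PrimeSpectrum.ext hcomap, hWs.fromSpec_primeIdealOf]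
  · refine residueFieldMap_bijective_comp (Spec.map ι) hWs.fromSpec v (spec_residueFieldMap_bijective ι v fun z => ?_)
    obtain ⟨r, s, hs, hrs⟩ := hres z
    exact ⟨r, s, fun h => hs (hcomap ▸ h), hrs⟩
  · show hWT.fromSpec ((Spec.map ρ'') v) = q y
    rw [show (Spec.map ρ'') v = hWT.primeIdealOf ⟨q y, hy⟩ from PrimeSpectrum.ext (Ideal.ext fun r =>
      (hρ' r).trans (hρ r)), hWT.fromSpec_primeIdealOf]
  · show Etale (Spec.map kB' ≫ jX ≫ pullback.fst p eV)
    infer_instance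
  · rw [ha]
    exact residueFieldMap_bijective_comp _ _ _ (spec_residueFieldMap_bijective kBB pw hwfB)
  · show (Spec.map kB' ≫ jX ≫ pullback.fst p eV) ≫ p = (Spec.map kC' ≫ jV) ≫ pullback.snd q τ ≫ eV
    simp only [Category.assoc, pullback.condition]
    rw [reassoc_of% hjX2, reassoc_of% hjV2]
    have hk : (CommRingCat.ofHom Algebra.TensorProduct.includeLeftRingHom :
          CommRingCat.of A' ⟶ CommRingCat.of (A' ⊗[Γ(S, Ws)] Γ(X, VX))) ≫ kB' =
        (CommRingCat.ofHom Algebra.TensorProduct.includeLeftRingHom :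
          CommRingCat.of A' ⟶ CommRingCat.of (A' ⊗[Γ(T, WT)] Γ(Y, VY))) ≫ kC' :=
      CommRingCat.hom_ext (RingHom.ext fun a => hkBC a)
    have h2 := congrArg Spec.map hk
    rw [Spec.map_comp, Spec.map_comp] at h2
    simp only [← Category.assoc]
    exact congrArg (· ≫ eV) h2
  · show (pullback.fst q τ) (jV ((Spec.map kC') pw)) = y
    rw [← Scheme.Hom.comp_apply, hjV1]
    show hVY.fromSpec (_) = y
    refine (congrArg hVY.fromSpec ?_).trans (hVY.fromSpec_primeIdealOf ⟨y, hyV⟩)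
    exact PrimeSpectrum.ext (Ideal.ext fun c => (hkwC c).trans (hkC c))
  · show (pullback.snd q τ) (jV ((Spec.map kC') pw)) = v
    rw [← Scheme.Hom.comp_apply, hjV2]
    exact PrimeSpectrum.ext (Ideal.ext fun c => hkA c)
  · exact residueFieldMap_bijective_comp _ jV pw (spec_residueFieldMap_bijective kC' pw hwfC)

end Groth.Agent.EtNhd31
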