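import Groth.Agent.EtNhd31.Core
import Groth.Agent.EtNhd31.Basic
import Groth.Agent.EGA4H10.FormalFibreEFT
import Groth.Agent.An92.FSch.Stalk
import Mathlib.AlgebraicGeometry.Morphisms.Etale
import Mathlib.AlgebraicGeometry.Noetherian

/-!
Morphisms into completed local rings are approximated on étale neighbourhoods.
-/

set_option autoImplicit false
set_option linter.style.haveILetI false
universe u

open CategoryTheory AlgebraicGeometry IsLocalRing

namespace Groth.Agent.EtNhd31

/-- A ring isomorphism of local rings preserves powers of the maximal ideals. -/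
theorem mem_pow_iff {R R' : Type u} [CommRing R] [CommRing R'] [IsLocalRing R] [IsLocalRing R']
    (e : R ≃+* R') (k : ℕ) (r : R) : e r ∈ maximalIdeal R' ^ k ↔ r ∈ maximalIdeal R ^ k := by
  have h : ∀ {R R' : Type u} [CommRing R] [CommRing R'] [IsLocalRing R] [IsLocalRing R'] (e : R ≃+* R') (r : R),
      r ∈ maximalIdeal R ^ k → e r ∈ maximalIdeal R' ^ k := by
    intro R R' _ _ _ _ e r hr
    have hle : (maximalIdeal R).map e.toRingHom ≤ maximalIdeal R' :=
      Ideal.map_le_iff_le_comap.2 fun z hz => by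
        rw [Ideal.mem_comap, mem_maximalIdeal, mem_nonunits_iff] at *
        exact fun h => hz ((isUnit_map_iff e z).1 h)
    have := Ideal.mem_map_of_mem e.toRingHom hr
    rw [Ideal.map_pow] at this
    exact Ideal.pow_right_mono hle k this
  exact ⟨fun hr => by simpa using h e.symm _ hr, h e r⟩

variable {X Y S : Scheme.{u}}

theorem exists_nbhd [IsLocallyNoetherian S]
    (p : X ⟶ S) (q : Y ⟶ S) [LocallyOfFiniteType p] [LocallyOfFiniteType q] (x : X) (y : Y) (hxy : p x = q y)
    (hG : CAlg.IsGRing ↑(S.presheaf.stalk (p x)))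
    (φ : ↑(Y.presheaf.stalk y) →+* (AdicCompletion (maximalIdeal ↑(X.presheaf.stalk x)) ↑(X.presheaf.stalk x)))
    (hφ : φ.comp ((q.stalkMap y).hom.comp (S.presheaf.stalkCongr (Inseparable.of_eq hxy)).hom.hom) =
      (algebraMap ↑(X.presheaf.stalk x) (AdicCompletion (maximalIdeal ↑(X.presheaf.stalk x)) ↑(X.presheaf.stalk x))).comp (p.stalkMap x).hom)
    (hloc : ∀ b ∈ maximalIdeal ↑(Y.presheaf.stalk y),
      φ b ∈ (maximalIdeal ↑(X.presheaf.stalk x)).map (algebraMap ↑(X.presheaf.stalk x) (AdicCompletion (maximalIdeal ↑(X.presheaf.stalk x)) ↑(X.presheaf.stalk x))))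
    (N : ℕ) (hN : 1 ≤ N) :
    ∃ (U : Scheme.{u}) (e : U ⟶ X) (u : U) (heu : e u = x) (f : U ⟶ Y) (hfu : f u = y),
      Etale e ∧ Function.Bijective (e.residueFieldMap u) ∧ f ≫ q = e ≫ p ∧
      ∀ (b : ↑(Y.presheaf.stalk y)) (c : ↑(X.presheaf.stalk x)),
        AdicCompletion.evalₐ (maximalIdeal ↑(X.presheaf.stalk x)) N (φ b) =
          Ideal.Quotient.mk (maximalIdeal ↑(X.presheaf.stalk x) ^ N) c →
        Ideal.Quotient.mk (maximalIdeal ↑(U.presheaf.stalk u) ^ N)
            ((f.stalkMap u).hom ((Y.presheaf.stalkCongr (Inseparable.of_eq hfu)).inv.hom b)) =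
          Ideal.Quotient.mk (maximalIdeal ↑(U.presheaf.stalk u) ^ N)
            ((e.stalkMap u).hom ((X.presheaf.stalkCongr (Inseparable.of_eq heu)).inv.hom c)) := by
  classical
  -- affine charts
  obtain ⟨_, ⟨W, hW, rfl⟩, hxW, -⟩ := S.isBasis_affineOpens.exists_subset_of_mem_open
    (Set.mem_univ (p x)) isOpen_univ
  obtain ⟨_, ⟨VX, hVX, rfl⟩, hxV, hVXle⟩ := X.isBasis_affineOpens.exists_subset_of_mem_open
    (show x ∈ p ⁻¹ᵁ W from hxW) (p ⁻¹ᵁ W).2
  obtain ⟨_, ⟨VY, hVY, rfl⟩, hyV, hVYle⟩ := Y.isBasis_affineOpens.exists_subset_of_mem_open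
    (show y ∈ q ⁻¹ᵁ W by show q y ∈ W; rw [← hxy]; exact hxW) (q ⁻¹ᵁ W).2
  haveI : IsNoetherianRing Γ(S, W) := IsLocallyNoetherian.component_noetherian ⟨W, hW⟩
  letI : Algebra Γ(S, W) Γ(X, VX) := (p.appLE W VX hVXle).hom.toAlgebra
  letI : Algebra Γ(S, W) Γ(Y, VY) := (q.appLE W VY hVYle).hom.toAlgebra
  haveI : Algebra.FiniteType Γ(S, W) Γ(X, VX) := LocallyOfFiniteType.finiteType_appLE p hW hVX hVXle
  haveI : Algebra.FiniteType Γ(S, W) Γ(Y, VY) := LocallyOfFiniteType.finiteType_appLE q hW hVY hVYle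
  -- stalks as localizations
  let P := (hVX.primeIdealOf ⟨x, hxV⟩).asIdeal
  letI : Algebra Γ(X, VX) (X.presheaf.stalk x) := (X.presheaf.germ VX x hxV).hom.toAlgebra
  haveI hlocX : IsLocalization.AtPrime (X.presheaf.stalk x) P := hVX.isLocalization_stalk ⟨x, hxV⟩
  let Q := (hVY.primeIdealOf ⟨y, hyV⟩).asIdeal
  letI : Algebra Γ(Y, VY) (Y.presheaf.stalk y) := (Y.presheaf.germ VY y hyV).hom.toAlgebra
  haveI hlocY : IsLocalization.AtPrime (Y.presheaf.stalk y) Q := hVY.isLocalization_stalk ⟨y, hyV⟩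
  let Lp := Localization.AtPrime P
  let e0 : X.presheaf.stalk x ≃ₐ[Γ(X, VX)] Lp := IsLocalization.algEquiv P.primeCompl _ _
  haveI : IsNoetherianRing Γ(X, VX) := Algebra.FiniteType.isNoetherianRing Γ(S, W) Γ(X, VX)
  haveI : IsNoetherianRing (X.presheaf.stalk x) := IsLocalization.isNoetherianRing P.primeCompl _ inferInstance
  have hGL : CAlg.IsGRing Lp := by
    refine EGA4H10.isGRing_of_ringEquiv e0.toRingEquiv ?_
    letI : Algebra (S.presheaf.stalk (p x)) (X.presheaf.stalk x) := (p.stalkMap x).hom.toAlgebra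
    haveI : Algebra.EssFiniteType (S.presheaf.stalk (p x)) (X.presheaf.stalk x) :=
      LocallyOfFiniteType.stalkMap p x
    exact EGA4H10.isGRing_of_essFiniteType (S.presheaf.stalk (p x)) hG (X.presheaf.stalk x)
  let mx := maximalIdeal (X.presheaf.stalk x)
  have hmap : mx.map e0.toRingEquiv.toRingHom ≤ maximalIdeal Lp :=
    Ideal.map_le_iff_le_comap.2 fun z hz => by
      have := (mem_pow_iff e0.toRingEquiv 1 z).2 (by rwa [pow_one])
      rwa [pow_one] at this
  let θ : AdicCompletion mx (X.presheaf.stalk x) →+* AdicCompletion (maximalIdeal Lp) Lp :=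
    FSch.complMap mx (maximalIdeal Lp) e0.toRingEquiv.toRingHom hmap
  have hθev : ∀ (k : ℕ) (z : AdicCompletion mx (X.presheaf.stalk x)) (w : X.presheaf.stalk x),
      AdicCompletion.evalₐ mx k z = Ideal.Quotient.mk _ w →
      AdicCompletion.evalₐ (maximalIdeal Lp) k (θ z) = Ideal.Quotient.mk _ (e0 w) := by
    intro k z w h
    rw [An92.FSch.evalₐ_complMap, h, Ideal.quotientMap_mk]
    rfl
  let φL : Γ(Y, VY) →+* AdicCompletion (maximalIdeal Lp) Lp :=
    (θ.comp φ).comp (algebraMap Γ(Y, VY) (Y.presheaf.stalk y))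
  have hφL : ∀ a : Γ(S, W), φL (algebraMap Γ(S, W) Γ(Y, VY) a) =
      algebraMap Lp _ (algebraMap Γ(X, VX) Lp (algebraMap Γ(S, W) Γ(X, VX) a)) := by
    intro a
    have hqy : q y ∈ W := hxy ▸ hxW
    have h1 := RingHom.congr_fun hφ (S.presheaf.germ W (p x) hxW a)
    simp only [RingHom.comp_apply] at h1
    have h2 : (S.presheaf.stalkCongr (Inseparable.of_eq hxy)).hom.hom (S.presheaf.germ W (p x) hxW a) =
        S.presheaf.germ W (q y) hqy a :=
      S.presheaf.germ_stalkSpecializes_apply hxW (Inseparable.of_eq hxy).ge a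
    rw [h2, germ_stalkMap_appLE q W hVYle y hyV hqy a, germ_stalkMap_appLE p W hVXle x hxV hxW a] at h1
    show θ (φ (Y.presheaf.germ VY y hyV ((q.appLE W VY hVYle).hom a))) = _
    rw [h1]
    show θ (algebraMap _ _ (algebraMap Γ(X, VX) (X.presheaf.stalk x) ((p.appLE W VX hVXle).hom a))) = _
    rw [show θ (algebraMap _ _ (algebraMap Γ(X, VX) (X.presheaf.stalk x) ((p.appLE W VX hVXle).hom a))) =
      algebraMap Lp _ (e0 (algebraMap Γ(X, VX) (X.presheaf.stalk x) ((p.appLE W VX hVXle).hom a))) from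
      An92.FSch.complMap_algebraMap hmap _, AlgEquiv.commutes]
    rfl
  obtain ⟨B', _, _, hB', P', hP', hcomap, htriv, g, hgA, hgP', hcore⟩ :=
    exists_approx (A := Γ(S, W)) P hGL φL hφL N hN
  let ι : Γ(X, VX) ⟶ CommRingCat.of B' := CommRingCat.ofHom (algebraMap Γ(X, VX) B')
  let γ : Γ(Y, VY) ⟶ CommRingCat.of B' := CommRingCat.ofHom g
  let U : Scheme.{u} := Spec (CommRingCat.of B')
  let pt : U := (⟨P', hP'⟩ : PrimeSpectrum B')
  let eX : U ⟶ X := Spec.map ι ≫ hVX.fromSpec
  let fY : U ⟶ Y := Spec.map γ ≫ hVY.fromSpec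
  have heu : eX pt = x := by
    show hVX.fromSpec (Spec.map ι pt) = x
    have : Spec.map ι pt = hVX.primeIdealOf ⟨x, hxV⟩ := PrimeSpectrum.ext hcomap
    rw [this, hVX.fromSpec_primeIdealOf]
  -- `φ` is local
  have hlocal : ∀ c : Γ(Y, VY), AdicCompletion.evalₐ (maximalIdeal Lp) 1 (φL c) = 0 ↔ c ∈ Q := by
    intro c
    rw [← IsLocalization.AtPrime.to_map_mem_maximal_iff (Y.presheaf.stalk y) Q c]
    refine ⟨fun h => ?_, fun h => ?_⟩
    · by_contra hc
      have hu := ((IsLocalRing.notMem_maximalIdeal.1 hc).map (θ.comp φ)).map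
        (AdicCompletion.evalₐ (maximalIdeal Lp) 1)
      change IsUnit (AdicCompletion.evalₐ (maximalIdeal Lp) 1 (φL c)) at hu
      rw [h, isUnit_zero_iff, eq_comm, ← map_one (Ideal.Quotient.mk (maximalIdeal Lp ^ 1)),
        Ideal.Quotient.eq_zero_iff_mem, pow_one] at hu
      exact (maximalIdeal.isMaximal Lp).ne_top ((Ideal.eq_top_iff_one _).2 hu)
    · have h1 : φ (algebraMap _ _ c) ∈ (mx ^ 1).map (algebraMap _ (AdicCompletion mx (X.presheaf.stalk x))) := by
        rw [pow_one]; exact hloc _ h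
      have := hθev 1 (φ (algebraMap _ _ c)) 0 (by rw [(evalₐ_eq_zero_iff_mem_map 1 _).2 h1, map_zero])
      rw [map_zero, map_zero] at this
      exact this
  have hfu : fY pt = y := by
    show hVY.fromSpec (Spec.map γ pt) = y
    have : Spec.map γ pt = hVY.primeIdealOf ⟨y, hyV⟩ :=
      PrimeSpectrum.ext (Ideal.ext fun c => (hgP' c).trans (hlocal c))
    rw [this, hVY.fromSpec_primeIdealOf]
  let O := U.presheaf.stalk pt
  let ex : X.presheaf.stalk x →+* O :=
    (eX.stalkMap pt).hom.comp (X.presheaf.stalkCongr (Inseparable.of_eq heu)).inv.hom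
  let fy : Y.presheaf.stalk y →+* O :=
    (fY.stalkMap pt).hom.comp (Y.presheaf.stalkCongr (Inseparable.of_eq hfu)).inv.hom
  have hex : ∀ b, ex (algebraMap Γ(X, VX) (X.presheaf.stalk x) b) = toStk (CommRingCat.of B') pt (algebraMap _ B' b) :=
    fun b => stalkMap_germ hVX ι pt x heu hxV b
  have hfy : ∀ c, fy (algebraMap Γ(Y, VY) (Y.presheaf.stalk y) c) = toStk (CommRingCat.of B') pt (g c) :=
    fun c => stalkMap_germ hVY γ pt y hfu hyV c
  have hexm : mx.map ex ≤ maximalIdeal O :=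
    Ideal.map_le_iff_le_comap.2 fun z hz => by
      obtain ⟨⟨r, s⟩, hrs⟩ := IsLocalization.surj P.primeCompl z
      have hr : r ∈ P := by
        rw [← IsLocalization.AtPrime.to_map_mem_maximal_iff (X.presheaf.stalk x) P, ← hrs]
        exact Ideal.mul_mem_right _ _ hz
      have hu : IsUnit (ex (algebraMap _ _ (s : Γ(X, VX)))) := (IsLocalization.map_units _ s).map ex
      rw [Ideal.mem_comap, ← Ideal.mul_unit_mem_iff_mem _ hu, ← map_mul, hrs, hex, toStk_mem_iff]
      show r ∈ P'.comap (algebraMap _ B')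
      rwa [hcomap]
  refine ⟨U, eX, pt, heu, fY, hfu, ?_, ?_, ?_, ?_⟩
  · haveI : Etale (Spec.map ι) := by
      rw [HasRingHomProperty.Spec_iff (P := @Etale)]
      exact RingHom.etale_algebraMap.2 hB'
    infer_instance
  · refine residueFieldMap_bijective eX pt fun w => ?_
    obtain ⟨z, t, ht, hw⟩ := toStk_surj (CommRingCat.of B') pt w
    obtain ⟨r, s, hs, hrs⟩ := htriv z
    obtain ⟨r', s', hs', hrs'⟩ := htriv t
    have hr' : r' ∉ P := fun h => ht ((hP'.mem_or_mem (show algebraMap _ B' s' * t ∈ P' by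
      have h' : algebraMap _ B' r' ∈ P' := by rw [← hcomap] at h; exact h
      have := add_mem hrs' h'; rwa [sub_add_cancel] at this)).resolve_left fun h'' => hs' (hcomap ▸ h''))
    have hu : s * r' ∈ P.primeCompl := P.primeCompl.mul_mem hs hr'
    refine ⟨(X.presheaf.stalkCongr (Inseparable.of_eq heu)).inv.hom
      (IsLocalization.mk' (X.presheaf.stalk x) (r * s') ⟨s * r', hu⟩), ?_⟩
    show w - ex (IsLocalization.mk' (X.presheaf.stalk x) (r * s') ⟨s * r', hu⟩) ∈ _
    set v := ex (IsLocalization.mk' (X.presheaf.stalk x) (r * s') ⟨s * r', hu⟩) with hv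
    have e2 : v * ex (algebraMap _ _ (s * r')) = ex (algebraMap _ _ (r * s')) := by
      rw [hv, ← map_mul, IsLocalization.mk'_spec]
    rw [hex, hex] at e2
    have hden : IsUnit (toStk (CommRingCat.of B') pt (algebraMap _ B' (s * r')) * toStk (CommRingCat.of B') pt t) := by
      refine IsUnit.mul ?_ (by by_contra h; exact ht ((toStk_mem_iff _ _ _).1 h))
      rw [← hex]
      exact (IsLocalization.map_units _ (⟨s * r', hu⟩ : P.primeCompl)).map ex
    refine (Ideal.mul_unit_mem_iff_mem _ hden).1 ?_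
    have key : (w - v) * (toStk (CommRingCat.of B') pt (algebraMap _ B' (s * r')) * toStk (CommRingCat.of B') pt t) =
        toStk (CommRingCat.of B') pt ((algebraMap _ B' s * z - algebraMap _ B' r) * algebraMap _ B' r' -
          algebraMap _ B' r * (algebraMap _ B' s' * t - algebraMap _ B' r')) := by
      simp only [map_mul, map_sub] at e2 hw ⊢
      linear_combination (toStk (CommRingCat.of B') pt (algebraMap _ B' s) * toStk (CommRingCat.of B') pt (algebraMap _ B' r')) * hw -
        (toStk (CommRingCat.of B') pt t) * e2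
    rw [key, toStk_mem_iff]
    exact sub_mem (P'.mul_mem_right _ hrs) (P'.mul_mem_left _ hrs')
  · have hAB : q.appLE W VY hVYle ≫ γ = p.appLE W VX hVXle ≫ ι := CommRingCat.hom_ext (RingHom.ext hgA)
    show (Spec.map γ ≫ hVY.fromSpec) ≫ q = (Spec.map ι ≫ hVX.fromSpec) ≫ p
    rw [Category.assoc, Category.assoc, ← hW.SpecMap_appLE_fromSpec q hVY hVYle,
      ← hW.SpecMap_appLE_fromSpec p hVX hVXle, ← Spec.map_comp_assoc, ← Spec.map_comp_assoc, hAB]
  · intro b c hbc
    let qm : (X.presheaf.stalk x) ⧸ mx ^ N →+* O ⧸ maximalIdeal O ^ N :=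
      Ideal.quotientMap _ ex (Ideal.map_le_iff_le_comap.1
        ((Ideal.map_pow ex mx N).trans_le (Ideal.pow_right_mono hexm N)))
    have hρ : (Ideal.Quotient.mk (maximalIdeal O ^ N)).comp fy =
        qm.comp ((AdicCompletion.evalₐ mx N).toRingHom.comp φ) := by
      refine IsLocalization.ringHom_ext Q.primeCompl (RingHom.ext fun cY => ?_)
      show Ideal.Quotient.mk (maximalIdeal O ^ N) (fy (algebraMap _ _ cY)) =
        qm (AdicCompletion.evalₐ mx N (φ (algebraMap _ _ cY)))
      obtain ⟨w, hw⟩ := Ideal.Quotient.mk_surjective (AdicCompletion.evalₐ mx N (φ (algebraMap _ _ cY)))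
      obtain ⟨⟨r, s⟩, hrs⟩ := IsLocalization.surj P.primeCompl w
      rw [← hw, Ideal.quotientMap_mk]
      obtain ⟨t, ht, htm⟩ := hcore cY r s s.2 (by
        rw [show φL cY = θ (φ (algebraMap _ _ cY)) from rfl, hθev N _ w hw.symm, ← map_mul]
        congr 1
        rw [← AlgEquiv.commutes e0 (s : Γ(X, VX)), ← map_mul, hrs, AlgEquiv.commutes])
      have htu : IsUnit (toStk (CommRingCat.of B') pt t) := by
        by_contra h; exact ht ((toStk_mem_iff _ _ _).1 h)
      have hsu : IsUnit (ex (algebraMap _ _ (s : Γ(X, VX)))) := (IsLocalization.map_units _ s).map ex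
      rw [Ideal.Quotient.eq, ← Ideal.unit_mul_mem_iff_mem _ (htu.mul hsu)]
      have hz := toStk_pow_mem (CommRingCat.of B') pt N (show t * _ ∈ P' ^ N from htm)
      convert hz using 1
      have e3 : ex w * ex (algebraMap _ _ (s : Γ(X, VX))) = ex (algebraMap _ _ r) := by rw [← map_mul, hrs]
      rw [hex, hex] at e3
      rw [hfy, hex]
      simp only [map_mul, map_sub]
      linear_combination -(toStk (CommRingCat.of B') pt t) * e3
    have := RingHom.congr_fun hρ b
    refine this.trans ?_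
    show qm (AdicCompletion.evalₐ mx N (φ b)) = _
    rw [hbc]
    rfl

end Groth.Agent.EtNhd31
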